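import Mathlib

/-!
# Small lemmas on invariant sets of finite group actions
-/

set_option autoImplicit false

namespace Cfsg.Agent.CG26.Ito

variable {G X : Type*} [Group G] [MulAction G X] [Finite X]

/-- If all stabilisers on an invariant set have order `e`, the common orbit length divides the
size of the set. -/
theorem dvd_ncard_of_stab (K : Subgroup G) [Finite K] (S : Set X)
    (hS : ∀ g ∈ K, ∀ x ∈ S, g • x ∈ S) (u : ℕ)
    (hu : ∀ x ∈ S, (MulAction.orbit K x).ncard = u) : u ∣ S.ncard := by
  classical
  let A : SubMulAction K X :=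
    { carrier := S
      smul_mem' := fun g _ hx => hS g.1 g.2 _ hx }
  have key : ∀ a : A, (MulAction.orbit K a).ncard = u := by
    intro a
    rw [← hu a.1 a.2, ← SubMulAction.val_image_orbit, Set.ncard_image_of_injective _ Subtype.val_injective]
  have : S.ncard = Nat.card A := (Nat.card_coe_set_eq S).symm
  have := Fintype.ofFinite (MulAction.orbitRel.Quotient K A)
  rw [‹S.ncard = _›, Nat.card_congr (MulAction.selfEquivSigmaOrbits K A), Nat.card_sigma]
  refine Finset.dvd_sum fun ω _ => ?_
  rw [Nat.card_coe_set_eq, key]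

/-- A free action on an invariant set: the group order divides the size of the set. -/
theorem dvd_ncard_of_free (K : Subgroup G) [Finite K] (S : Set X)
    (hS : ∀ g ∈ K, ∀ x ∈ S, g • x ∈ S)
    (hfree : ∀ g ∈ K, ∀ x ∈ S, g • x = x → g = 1) : Nat.card K ∣ S.ncard := by
  refine dvd_ncard_of_stab K S hS _ fun x hx => ?_
  rw [← Nat.card_coe_set_eq]
  refine Nat.card_congr (Equiv.ofBijective (fun g : K => (⟨g • x, ⟨g, rfl⟩⟩ : MulAction.orbit K x))
    ⟨fun g h he => ?_, fun y => ?_⟩).symm
  · have e : g • x = h • x := congrArg Subtype.val he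
    have : ((h : G)⁻¹ * g) • x = x := by
      rw [mul_smul, show (g : G) • x = (h : G) • x from e, inv_smul_smul]
    exact Subtype.ext (inv_mul_eq_one.1 (hfree _ (K.mul_mem (K.inv_mem h.2) g.2) x hx this)).symm
  · obtain ⟨g, hg⟩ := y.2
    exact ⟨g, Subtype.ext hg⟩

/-- Orbit length times stabiliser order. -/
theorem orbit_mul_stab (K : Subgroup G) [Finite K] (x : X) :
    (MulAction.orbit K x).ncard * Nat.card (MulAction.stabilizer K x) = Nat.card K := by
  rw [← Nat.card_coe_set_eq, ← Nat.card_prod]
  exact Nat.card_congr (MulAction.orbitProdStabilizerEquivGroup K x)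

end Cfsg.Agent.CG26.Ito
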