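import Cfsg.Agent.CG26.Ito.Design
import Cfsg.Agent.CG26.Ito.GroupTools

/-!
# Axial automorphisms of symmetric designs: centres
-/

set_option autoImplicit false
set_option linter.unusedSectionVars false

namespace Cfsg.Agent.CG26.Ito

variable {G P B : Type*} [Group G] [MulAction G P] [MulAction G B] [Fintype P] [Fintype B]
  (D : Des G P B)

namespace Des

include D

/-- `g` fixes every point of the block `c`. -/
def Ax (g : G) (c : B) : Prop := ∀ p, D.I p c → g • p = p

/-- `g` fixes every block through the point `x`. -/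
def Ce (g : G) (x : P) : Prop := ∀ c, D.I x c → g • c = c

/-- An elation-type automorphism: its fixed points are those of the axis. -/
def Semi (g : G) (c : B) : Prop := ∀ p, ¬ D.I p c → g • p ≠ p

/-- There is an axial automorphism. -/
def HasAxial : Prop := ∃ g : G, g ≠ 1 ∧ ∃ c, D.Ax g c

/-- There is an axial automorphism fixing a point off the axis. -/
def HasHom : Prop := ∃ g : G, g ≠ 1 ∧ ∃ c p, D.Ax g c ∧ ¬ D.I p c ∧ g • p = p

/-- The pointwise stabiliser of a block. -/
def K (c : B) : Subgroup G where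
  carrier := {g | D.Ax g c}
  one_mem' := fun p _ => one_smul G p
  mul_mem' {a b} ha hb p hp := by rw [mul_smul, hb p hp, ha p hp]
  inv_mem' {a} ha p hp := inv_smul_eq_iff.2 (ha p hp).symm

theorem mem_K {g : G} {c : B} : g ∈ D.K c ↔ D.Ax g c := Iff.rfl

theorem ax_smul {g : G} {c : B} (h : D.Ax g c) : g • c = c :=
  (D.blk_eq (c := c) (d := g • c) fun p hp => by
    have := (D.inv g p c).2 hp
    rwa [h p hp] at this).symm

theorem ax_off {g : G} {c : B} (h : D.Ax g c) {p : P} (hp : ¬ D.I p c) : ¬ D.I (g • p) c := by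
  intro h'
  exact hp (MulAction.injective g (h _ h') ▸ h')

theorem ax_conj {g : G} {c : B} (h : D.Ax g c) (a : G) : D.Ax (a * g * a⁻¹) (a • c) := by
  intro p hp
  rw [D.inv''] at hp
  rw [mul_smul, mul_smul, h _ hp, smul_inv_smul]

theorem ce_conj {g : G} {x : P} (h : D.Ce g x) (a : G) : D.Ce (a * g * a⁻¹) (a • x) := by
  intro c hc
  rw [D.inv'] at hc
  rw [mul_smul, mul_smul, h _ hc, smul_inv_smul]

theorem semi_conj {g : G} {c : B} (h : D.Semi g c) (a : G) : D.Semi (a * g * a⁻¹) (a • c) := by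
  intro p hp he
  rw [D.inv''] at hp
  rw [mul_smul, mul_smul, smul_eq_iff_eq_inv_smul] at he
  exact h _ hp he

theorem conj_ne_one {g : G} (h : g ≠ 1) (a : G) : a * g * a⁻¹ ≠ 1 := by
  intro e
  exact h (conj_eq_one_iff.1 e)

theorem exists_ax (h : D.HasAxial) (c : B) : ∃ g : G, g ≠ 1 ∧ D.Ax g c := by
  obtain ⟨g, hg, d, hd⟩ := h
  obtain ⟨a, ha⟩ := D.trB d c
  exact ⟨a * g * a⁻¹, D.conj_ne_one hg a, ha ▸ D.ax_conj hd a⟩

/-- For a moved point off the axis, a block through it is fixed iff it contains the image. -/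
theorem fixed_iff_of_moved {g : G} {c d : B} {q : P} (h : D.Ax g c) (hq : ¬ D.I q c)
    (hm : g • q ≠ q) (hqd : D.I q d) : g • d = d ↔ D.I (g • q) d := by
  refine ⟨fun e => e ▸ (D.inv g q d).2 hqd, fun hd => ?_⟩
  by_contra hne
  have hdc : d ≠ c := fun e => hq (e ▸ hqd)
  have hsub : {p | D.I p c ∧ D.I p d} ⊆ {p | D.I p (g • d) ∧ D.I p d} := fun p hp =>
    ⟨by have := (D.inv g p d).2 hp.2; rwa [h p hp.1] at this, hp.2⟩
  have heq := Set.eq_of_subset_of_ncard_le hsub
    (le_of_eq ((D.lam_pts _ _ hne).trans (D.lam_pts c d hdc.symm).symm)) (Set.toFinite _)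
  have hmem : g • q ∈ {p | D.I p (g • d) ∧ D.I p d} := ⟨(D.inv g q d).2 hqd, hd⟩
  rw [← heq] at hmem
  exact D.ax_off h hq hmem.1

/-- The fixed points off the axis. -/
def offFix (g : G) (c : B) : Set P := {p | ¬ D.I p c ∧ g • p = p}

theorem ncard_fix {g : G} {c : B} (h : D.Ax g c) :
    {p : P | g • p = p}.ncard = D.k + (D.offFix g c).ncard := by
  have e : {p : P | g • p = p} = {p | D.I p c} ∪ D.offFix g c := by
    ext p
    by_cases hp : D.I p c
    · simp [hp, offFix, h p hp]
    · simp [hp, offFix]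
  rw [e, Set.ncard_union_eq (Set.disjoint_left.2 fun p hp h' => h'.1 hp) (Set.toFinite _)
    (Set.toFinite _), D.card_pts]

theorem ncard_fixBlks {g : G} {c : B} (h : D.Ax g c) :
    {d : B | g • d = d}.ncard = D.k + (D.offFix g c).ncard := by
  rw [← D.fix_eq, D.ncard_fix h]

theorem ncard_fixed_through_moved {g : G} {c : B} {q : P} (h : D.Ax g c) (hq : ¬ D.I q c)
    (hm : g • q ≠ q) : {d : B | g • d = d ∧ D.I q d}.ncard = D.lam := by
  rw [← D.lam_blks q (g • q) (Ne.symm hm)]
  congr 1
  ext d
  exact ⟨fun hd => ⟨hd.2, (D.fixed_iff_of_moved h hq hm hd.2).1 hd.1⟩,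
    fun hd => ⟨(D.fixed_iff_of_moved h hq hm hd.1).2 hd.2, hd.1⟩⟩

/-- Fixed points off the axis are centres. -/
theorem ce_of_offFix {g : G} {c : B} {p : P} (h : D.Ax g c) (hp : p ∈ D.offFix g c) :
    D.Ce g p := by
  classical
  let r : P → ℤ := fun q => ({d : B | g • d = d ∧ D.I q d}.ncard : ℤ)
  let δ : P → ℤ := fun q => if q ∈ D.offFix g c then (D.k : ℤ) - r q else 0
  have hδ : ∀ q, 0 ≤ δ q := by
    intro q
    simp only [δ, r]
    split
    · have : {d : B | g • d = d ∧ D.I q d}.ncard ≤ D.k := by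
        rw [← D.card_blks q]
        exact Set.ncard_le_ncard (fun d hd => hd.2) (Set.toFinite _)
      omega
    · rfl
  have hr : ∀ q, (if D.I q c then 0 else r q) =
      (D.lam : ℤ) * (if D.I q c then 0 else 1) +
        ((D.k : ℤ) - D.lam) * (if q ∈ D.offFix g c then 1 else 0) - δ q := by
    intro q
    by_cases hq : D.I q c
    · simp [hq, δ, offFix]
    by_cases hm : g • q = q
    · simp [hq, hm, δ, offFix]
    · simp [hq, hm, δ, offFix, r, D.ncard_fixed_through_moved h hq hm]
  have hL : ∑ q, (if D.I q c then 0 else r q) =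
      ((D.k : ℤ) + (D.offFix g c).ncard - 1) * ((D.k : ℤ) - D.lam) := by
    have e1 : ∀ q, (if D.I q c then (0 : ℤ) else r q) =
        ∑ d : B, (if g • d = d ∧ D.I q d ∧ ¬ D.I q c then (1 : ℤ) else 0) := by
      intro q
      by_cases hq : D.I q c
      · simp [hq]
      · simp only [hq, if_false, not_false_eq_true, and_true, r]
        exact ncard_eq_sum_ite _
    have e2 : ∀ d : B, ∑ q : P, (if g • d = d ∧ D.I q d ∧ ¬ D.I q c then (1 : ℤ) else 0) =
        ((D.k : ℤ) - D.lam) * ((if g • d = d then 1 else 0) - (if d = c then 1 else 0)) := by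
      intro d
      by_cases hd : g • d = d
      · by_cases hdc : d = c
        · subst hdc
          simp [hd]
        · simp only [hd, hdc, true_and, if_true, if_false, sub_zero, mul_one]
          rw [← ncard_eq_sum_ite]
          have e : {q : P | D.I q d ∧ ¬ D.I q c} = {q | D.I q d} \ {q | D.I q c ∧ D.I q d} := by
            ext q; simp; tauto
          rw [e, Set.ncard_diff (fun q hq => hq.2) (Set.toFinite _), D.card_pts,
            D.lam_pts c d (Ne.symm hdc), Nat.cast_sub (by have := D.lam_lt; omega)]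
      · have : d ≠ c := fun e => hd (e ▸ D.ax_smul h)
        simp [hd, this]
    rw [Finset.sum_congr rfl fun q _ => e1 q, Finset.sum_comm,
      Finset.sum_congr rfl fun d _ => e2 d, ← Finset.mul_sum, Finset.sum_sub_distrib,
      ← ncard_eq_sum_ite, D.ncard_fixBlks h, Finset.sum_ite_eq']
    simp only [Finset.mem_univ, if_true]
    push_cast
    ring
  have hO : ∑ q, (if D.I q c then (0 : ℤ) else 1) = (Nat.card P : ℤ) - D.k := by
    have e : ∀ q, (if D.I q c then (0 : ℤ) else 1) = 1 - (if D.I q c then 1 else 0) := by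
      intro q; split <;> simp
    rw [Finset.sum_congr rfl fun q _ => e q, Finset.sum_sub_distrib, ← ncard_eq_sum_ite,
      D.card_pts, Nat.card_eq_fintype_card]
    simp
  rw [Finset.sum_congr rfl fun q _ => hr q, Finset.sum_sub_distrib, Finset.sum_add_distrib,
    ← Finset.mul_sum, ← Finset.mul_sum, ← ncard_eq_sum_ite, hO,
    show {a : P | a ∈ D.offFix g c} = D.offFix g c from rfl] at hL
  have hp0 : ∑ q, δ q = 0 := by linear_combination -hL - D.param'
  have hδp := (Finset.sum_eq_zero_iff_of_nonneg fun q _ => hδ q).1 hp0 p (Finset.mem_univ _)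
  simp only [δ, hp, if_true, r] at hδp
  have heq : {d : B | g • d = d ∧ D.I p d} = {d : B | D.I p d} :=
    Set.eq_of_subset_of_ncard_le (fun d hd => hd.2) (by rw [D.card_blks p]; omega)
      (Set.toFinite _)
  intro d hd
  exact ((Set.ext_iff.1 heq d).2 hd).1

/-- A nontrivial axial automorphism fixes at most one point off its axis. -/
theorem offFix_unique {g : G} {c : B} {p p' : P} (hg : g ≠ 1) (h : D.Ax g c)
    (hp : p ∈ D.offFix g c) (hp' : p' ∈ D.offFix g c) : p = p' := by
  classical
  by_contra hne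
  have hL : ∀ q, g • q ≠ q → q ∈ D.line p p' := by
    intro q hm
    have hq : ¬ D.I q c := fun e => hm (h q e)
    have hqp : q ≠ p := fun e => hm (by rw [e]; exact hp.2)
    have hqp' : q ≠ p' := fun e => hm (by rw [e]; exact hp'.2)
    have key : ∀ a : P, a ∈ D.offFix g c → q ≠ a →
        {d | D.I q d ∧ D.I a d} = {d | g • d = d ∧ D.I q d} := by
      intro a ha hqa
      refine Set.eq_of_subset_of_ncard_le (fun d hd => ⟨D.ce_of_offFix h ha d hd.2, hd.1⟩) ?_
        (Set.toFinite _)
      rw [D.ncard_fixed_through_moved h hq hm, D.lam_blks q a hqa]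
    have e := (key p hp hqp).trans (key p' hp' hqp').symm
    have hp'L : p' ∈ D.line q p := fun d h1 h2 => ((Set.ext_iff.1 e d).1 ⟨h1, h2⟩).2
    rw [D.line_eq (p := q) (q := p) hqp (D.right_mem_line q p) hp'L hne]
    exact D.left_mem_line q p
  obtain ⟨q, hm⟩ : ∃ q, g • q ≠ q := by
    by_contra hc
    push_neg at hc
    exact hg (D.faithful g hc)
  have hq : ¬ D.I q c := fun e => hm (h q e)
  obtain ⟨d, hqd, hd⟩ : ∃ d, D.I q d ∧ g • d ≠ d := by
    by_contra hc
    push_neg at hc
    have := D.ncard_fixed_through_moved h hq hm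
    have e : {d : B | g • d = d ∧ D.I q d} = {d | D.I q d} :=
      Set.ext fun d => ⟨fun h' => h'.2, fun h' => ⟨hc d h', h'⟩⟩
    rw [e, D.card_blks] at this
    have := D.lam_lt
    omega
  have hsub : {r : P | D.I r d} \ {q} ⊆ {r | D.I r (g • d) ∧ D.I r d} := by
    rintro r ⟨hr, hrq⟩
    refine ⟨?_, hr⟩
    by_cases hmr : g • r = r
    · have := (D.inv g r d).2 hr
      rwa [hmr] at this
    · exfalso
      have hin := D.line_in_blk hne (hL r hmr) (hL q hm) (by simpa using hrq) hr hqd p
        (D.left_mem_line p p')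
      exact hd (D.ce_of_offFix h hp d hin)
  have := Set.ncard_le_ncard hsub (Set.toFinite _)
  rw [Set.ncard_sdiff_singleton_of_mem (show q ∈ {r : P | D.I r d} from hqd), D.card_pts,
    D.lam_pts _ _ hd] at this
  have := D.lam_lt
  omega

theorem offFix_ncard_le {g : G} {c : B} (hg : g ≠ 1) (h : D.Ax g c) :
    (D.offFix g c).ncard ≤ 1 :=
  (Set.ncard_le_one_iff (Set.toFinite _)).2 fun hp hp' => D.offFix_unique hg h hp hp'

/-- The centre of a nontrivial axial automorphism is unique. -/
theorem ce_unique {g : G} {c : B} {x y : P} (hg : g ≠ 1) (h : D.Ax g c) (hx : D.Ce g x)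
    (hy : D.Ce g y) : x = y := by
  by_contra hne
  have hsub : {d : B | D.I x d} ∪ {d | D.I y d} ⊆ {d | g • d = d} := by
    rintro d (hd | hd)
    exacts [hx d hd, hy d hd]
  have h1 := Set.ncard_le_ncard hsub (Set.toFinite _)
  rw [D.ncard_fixBlks h] at h1
  have h2 := Set.ncard_union_add_ncard_inter {d : B | D.I x d} {d | D.I y d}
    (Set.toFinite _) (Set.toFinite _)
  have h3 : ({d : B | D.I x d} ∩ {d | D.I y d}).ncard = D.lam := D.lam_blks x y hne
  rw [D.card_blks, D.card_blks, h3] at h2
  have := D.offFix_ncard_le hg h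
  have := D.lam_lt
  omega

theorem exists_moving {c d : B} (hA : D.HasAxial) (hcd : c ≠ d) :
    ∃ a : G, D.Ax a d ∧ a • c ≠ c := by
  by_contra hc
  push_neg at hc
  obtain ⟨a, ha, had⟩ := D.exists_ax hA d
  refine ha (D.faithful_blks a fun c' => ?_)
  by_cases h : c' = d
  · rw [h]; exact D.ax_smul had
  obtain ⟨b, hb, hb'⟩ := D.ttB d c' d c (Ne.symm h) hcd.symm
  have h1 := D.ax_conj had b
  rw [hb] at h1
  have h2 := hc _ h1
  rw [← hb', mul_smul, mul_smul, inv_smul_smul] at h2
  exact MulAction.injective b h2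

/-- Every block is the axis of an elation. -/
theorem exists_elation [Finite G] (hA : D.HasAxial) (c : B) :
    ∃ g : G, g ≠ 1 ∧ D.Ax g c ∧ D.Semi g c := by
  classical
  by_contra hc
  push_neg at hc
  have hex : ∀ g ∈ D.K c, g ≠ 1 → ∃ p, ¬ D.I p c ∧ g • p = p := by
    intro g hg hne
    have := hc g hne hg
    simp only [Semi, not_forall, not_not] at this
    obtain ⟨p, hp, hp'⟩ := this
    exact ⟨p, hp, hp'⟩
  let X : Set P := {p | ¬ D.I p c}
  let K := D.K c
  have : Fintype K := Fintype.ofFinite K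
  obtain ⟨p₀, hp₀⟩ := D.exists_not_mem c
  set t := (MulAction.orbit K p₀).ncard with ht
  set j := Nat.card (MulAction.stabilizer K p₀) with hj
  have hstab : ∀ p, p ∈ X → Nat.card (MulAction.stabilizer K p) = j := by
    intro p hp
    obtain ⟨a, hac, hap⟩ := D.trOut c p₀ p hp₀ hp
    have mem : ∀ g : G, g ∈ K → a * g * a⁻¹ ∈ K := fun g hg => by
      have := D.ax_conj (D.mem_K.1 hg) a
      rwa [hac] at this
    have mem' : ∀ g : G, g ∈ K → a⁻¹ * g * a ∈ K := fun g hg => by
      have := D.ax_conj (D.mem_K.1 hg) a⁻¹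
      rwa [inv_inv, inv_smul_eq_iff.2 hac.symm] at this
    exact (Nat.card_congr
      ({ toFun := fun g => ⟨⟨a * g.1.1 * a⁻¹, mem _ g.1.2⟩, by
            show (a * g.1.1 * a⁻¹) • p = p
            rw [← hap, mul_smul, mul_smul, inv_smul_smul, show g.1.1 • p₀ = p₀ from g.2]⟩
         invFun := fun g => ⟨⟨a⁻¹ * g.1.1 * a, mem' _ g.1.2⟩, by
            show (a⁻¹ * g.1.1 * a) • p₀ = p₀
            rw [mul_smul, mul_smul, hap, show g.1.1 • p = p from g.2, ← hap, inv_smul_smul]⟩
         left_inv := fun g => Subtype.ext (Subtype.ext (by simp [mul_assoc]))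
         right_inv := fun g => Subtype.ext (Subtype.ext (by simp [mul_assoc])) } :
        MulAction.stabilizer K p₀ ≃ MulAction.stabilizer K p)).symm
  have htj : t * j = Nat.card K := orbit_mul_stab K p₀
  have hjpos : 0 < j := Nat.card_pos
  have hdiv : t ∣ X.ncard := by
    refine dvd_ncard_of_stab K X (fun g hg p hp => D.ax_off hg hp) t fun p hp => ?_
    have h1 := orbit_mul_stab K p
    rw [hstab p hp, ← htj] at h1
    exact Nat.eq_of_mul_eq_mul_right hjpos h1
  have hcount : (X.ncard : ℤ) * j = (Nat.card K : ℤ) - 1 + X.ncard := by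
    have e1 : ∀ g : K, ∑ p : P, (if p ∈ X ∧ g • p = p then (1 : ℤ) else 0) =
        if g = 1 then (X.ncard : ℤ) else 1 := by
      intro g
      rw [← ncard_eq_sum_ite]
      split
      · next h =>
        subst h
        simp
      · next h =>
        obtain ⟨p, hp, hgp⟩ := hex g g.2 (fun e => h (Subtype.ext e))
        have e : {q : P | q ∈ X ∧ g • q = q} = {p} := by
          refine Set.eq_singleton_iff_unique_mem.2 ⟨⟨hp, hgp⟩, fun q hq => ?_⟩
          exact D.offFix_unique (fun e => h (Subtype.ext e)) g.2 ⟨hq.1, hq.2⟩ ⟨hp, hgp⟩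
        simp [e]
    have e2 : ∀ p : P, ∑ g : K, (if p ∈ X ∧ g • p = p then (1 : ℤ) else 0) =
        (j : ℤ) * (if p ∈ X then 1 else 0) := by
      intro p
      rw [← ncard_eq_sum_ite]
      by_cases hp : p ∈ X
      · simp only [hp, true_and, if_true, mul_one]
        rw [← hstab p hp, ← Nat.card_coe_set_eq]
        rfl
      · simp [hp]
    have := Finset.sum_comm (s := (Finset.univ : Finset K)) (t := (Finset.univ : Finset P))
      (f := fun g p => if p ∈ X ∧ g • p = p then (1 : ℤ) else 0)
    rw [Finset.sum_congr rfl fun g _ => e1 g, Finset.sum_congr rfl fun p _ => e2 p,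
      ← Finset.mul_sum, ← ncard_eq_sum_ite, Finset.sum_ite, Finset.sum_const,
      Finset.sum_const, Finset.filter_eq', if_pos (Finset.mem_univ _), Finset.card_singleton,
      Finset.filter_not, Finset.filter_eq', if_pos (Finset.mem_univ _),
      Finset.card_sdiff_of_subset (Finset.subset_univ _), Finset.card_singleton,
      Finset.card_univ, one_smul, nsmul_eq_mul, mul_one,
      Nat.cast_sub (Fintype.card_pos (α := K)), ← Nat.card_eq_fintype_card,
      show {a : P | a ∈ X} = X from rfl] at this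
    push_cast at this
    linarith
  have ht1 : t = 1 := by
    obtain ⟨N, hN⟩ := hdiv
    have h : (t : ℤ) * ((j : ℤ) - (N : ℤ) * ((j : ℤ) - 1)) = 1 := by
      rw [← htj] at hcount
      rw [hN] at hcount
      push_cast at hcount
      linear_combination -hcount
    have := Int.natCast_dvd_natCast.1 (show (t : ℤ) ∣ ((1 : ℕ) : ℤ) from ⟨_, by push_cast; exact h.symm⟩)
    exact Nat.dvd_one.1 this
  obtain ⟨g, hg, hgc⟩ := D.exists_ax hA c
  refine hg (D.faithful g fun p => ?_)
  by_cases hp : D.I p c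
  · exact hgc p hp
  obtain ⟨a, hac, hap⟩ := D.trOut c p₀ p hp₀ hp
  have h1 : a⁻¹ * g * a ∈ K := by
    have := D.ax_conj hgc a⁻¹
    rwa [inv_inv, inv_smul_eq_iff.2 hac.symm] at this
  have hmem : (⟨_, h1⟩ : K) • p₀ ∈ MulAction.orbit K p₀ := MulAction.mem_orbit _ _
  obtain ⟨z, hz⟩ := Set.ncard_eq_one.1 ht1
  have h2 : (⟨_, h1⟩ : K) • p₀ = p₀ := by
    have h3 := MulAction.mem_orbit_self (M := K) p₀
    rw [hz] at hmem h3
    exact hmem.trans h3.symm
  have h4 : (a⁻¹ * g * a) • p₀ = p₀ := h2
  rw [mul_smul, mul_smul, hap, inv_smul_eq_iff, hap] at h4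
  exact h4

/-- An elation has a centre on its axis. -/
theorem exists_centre (hA : D.HasAxial) {g : G} {c : B} (h : D.Ax g c)
    (hs : D.Semi g c) : ∃ x, D.I x c ∧ D.Ce g x := by
  classical
  have hF : (D.offFix g c).ncard = 0 := by
    rw [Set.ncard_eq_zero (Set.toFinite _)]
    exact Set.eq_empty_of_forall_notMem fun p hp => hs p hp.1 hp.2
  let Φ : Set B := {d | g • d = d}
  have hΦ : Φ.ncard = D.k := by rw [D.ncard_fixBlks h, hF, add_zero]
  let r : P → ℤ := fun q => ({d : B | g • d = d ∧ D.I q d}.ncard : ℤ)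
  have hsum : ∀ q, r q = ∑ d : B, (if g • d = d ∧ D.I q d then (1 : ℤ) else 0) :=
    fun q => ncard_eq_sum_ite _
  have hS1 : ∑ q, r q = (D.k : ℤ) * D.k := by
    rw [Finset.sum_congr rfl fun q _ => hsum q, Finset.sum_comm]
    have e : ∀ d : B, ∑ q : P, (if g • d = d ∧ D.I q d then (1 : ℤ) else 0) =
        (D.k : ℤ) * (if g • d = d then 1 else 0) := by
      intro d
      by_cases hd : g • d = d
      · simp only [hd, true_and, if_true, mul_one]
        rw [← ncard_eq_sum_ite, D.card_pts]
      · simp [hd]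
    rw [Finset.sum_congr rfl fun d _ => e d, ← Finset.mul_sum, ← ncard_eq_sum_ite]
    show (D.k : ℤ) * (Φ.ncard : ℤ) = _
    rw [hΦ]
  have hS2 : ∑ q, r q * r q = (D.lam : ℤ) * D.k * D.k + ((D.k : ℤ) - D.lam) * D.k := by
    have e1 : ∀ q, r q * r q = ∑ d : B, ∑ d' : B,
        ((if g • d = d ∧ D.I q d then (1 : ℤ) else 0) *
          (if g • d' = d' ∧ D.I q d' then 1 else 0)) := by
      intro q
      rw [hsum q, Finset.sum_mul_sum]
    have e2 : ∀ d d' : B, ∑ q : P, ((if g • d = d ∧ D.I q d then (1 : ℤ) else 0) *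
          (if g • d' = d' ∧ D.I q d' then 1 else 0)) =
        (if g • d = d then 1 else 0) * ((if g • d' = d' then 1 else 0) * (D.lam : ℤ) +
          ((D.k : ℤ) - D.lam) * (if d = d' then 1 else 0)) := by
      intro d d'
      by_cases hd : g • d = d
      · by_cases hd' : g • d' = d'
        · simp only [hd, hd', true_and, if_true, one_mul]
          have e : ∀ q, (if D.I q d then (1 : ℤ) else 0) * (if D.I q d' then 1 else 0) =
              if D.I q d ∧ D.I q d' then 1 else 0 := by
            intro q; split <;> simp_all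
          rw [Finset.sum_congr rfl fun q _ => e q, ← ncard_eq_sum_ite]
          by_cases he : d = d'
          · subst he; simp [D.card_pts]
          · simp [he, D.lam_pts d d' he]
        · have : d ≠ d' := fun e => hd' (e ▸ hd)
          simp [hd', this]
      · simp [hd]
    rw [Finset.sum_congr rfl fun q _ => e1 q, Finset.sum_comm]
    rw [Finset.sum_congr rfl fun d _ => Finset.sum_comm,
      Finset.sum_congr rfl fun d _ => Finset.sum_congr rfl fun d' _ => e2 d d']
    simp only [← Finset.mul_sum, Finset.sum_add_distrib, ← Finset.sum_mul, Finset.sum_ite_eq,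
      Finset.mem_univ, if_true]
    rw [← ncard_eq_sum_ite]
    show (Φ.ncard : ℤ) * _ = _
    rw [show {a : B | g • a = a} = Φ from rfl, hΦ]
    ring
  -- the bound on the axis
  have hbound : ∀ x, D.I x c → (D.lam : ℤ) ≤ r x := by
    intro x hx
    by_cases hall : ∀ d, g • d = d → D.I x d
    · have hsub : Φ ⊆ {d : B | g • d = d ∧ D.I x d} := fun d hd => ⟨hd, hall d hd⟩
      have := Set.ncard_le_ncard hsub (Set.toFinite _)
      rw [hΦ] at this
      have := D.lam_lt
      simp only [r]
      omega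
    push_neg at hall
    obtain ⟨b, hgb, hxb⟩ := hall
    have hbc : b ≠ c := fun e => hxb (e ▸ hx)
    obtain ⟨a, hab, hac⟩ := D.exists_moving hA (Ne.symm hbc)
    set q := a • x with hq
    have hqb : ¬ D.I q b := D.ax_off hab hxb
    have hqc : ¬ D.I q c := by
      intro hqc
      have hsub : {p | D.I p b ∧ D.I p c} ⊆ {p | D.I p (a • c) ∧ D.I p c} := fun p hp =>
        ⟨by have := (D.inv a p c).2 hp.2; rwa [hab p hp.1] at this, hp.2⟩
      have heq := Set.eq_of_subset_of_ncard_le hsub
        (le_of_eq ((D.lam_pts _ _ hac).trans (D.lam_pts b c hbc).symm)) (Set.toFinite _)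
      have hmem : q ∈ {p | D.I p (a • c) ∧ D.I p c} := ⟨(D.inv a x c).2 hx, hqc⟩
      rw [← heq] at hmem
      exact hqb hmem.1
    have hm : g • q ≠ q := hs q hqc
    have h1 := D.ncard_fixed_through_moved h hqc hm
    simp only [r]
    rw [← h1]
    refine Int.ofNat_le.2 (Set.ncard_le_ncard_of_injOn (a⁻¹ • ·) ?_
      (MulAction.injective a⁻¹).injOn (Set.toFinite _))
    rintro d ⟨hgd, hqd⟩
    refine ⟨?_, ?_⟩
    · -- the translated block is fixed
      set a' := g * a * g⁻¹ with ha'
      have ha'b : D.Ax a' b := by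
        have := D.ax_conj hab g
        rwa [hgb] at this
      set k' := a * a'⁻¹ with hk'
      have hk'b : D.Ax k' b := (D.K b).mul_mem hab ((D.K b).inv_mem ha'b)
      have h2 : k' • (g • q) = q := by
        have : a' • x = g • q := by
          rw [ha', mul_smul, mul_smul, inv_smul_eq_iff.2 (h x hx).symm, hq]
        rw [← this, hk', mul_smul, inv_smul_smul, hq]
      have hgqd : D.I (g • q) d := (D.fixed_iff_of_moved h hqc hm hqd).1 hgd
      have hk'd : k' • d = d := by
        by_contra hne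
        have hdb : d ≠ b := fun e => hqb (e ▸ hqd)
        have hsub : {p | D.I p b ∧ D.I p d} ⊆ {p | D.I p (k' • d) ∧ D.I p d} := fun p hp =>
          ⟨by have := (D.inv k' p d).2 hp.2; rwa [hk'b p hp.1] at this, hp.2⟩
        have heq := Set.eq_of_subset_of_ncard_le hsub
          (le_of_eq ((D.lam_pts _ _ hne).trans (D.lam_pts b d hdb.symm).symm)) (Set.toFinite _)
        have hmem : q ∈ {p | D.I p (k' • d) ∧ D.I p d} := by
          refine ⟨?_, hqd⟩
          have := (D.inv k' (g • q) d).2 hgqd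
          rwa [h2] at this
        rw [← heq] at hmem
        exact hqb hmem.1
      show g • a⁻¹ • d = a⁻¹ • d
      have h3 : a'⁻¹ • d = a⁻¹ • d := by
        rw [eq_inv_smul_iff, ← mul_smul]
        exact hk'd
      calc g • a⁻¹ • d = (g * a⁻¹ * g⁻¹) • d := by
            rw [mul_smul, mul_smul, inv_smul_eq_iff.2 hgd.symm]
        _ = a'⁻¹ • d := by rw [ha']; congr 1; group
        _ = a⁻¹ • d := h3
    · show D.I x (a⁻¹ • d)
      rw [← D.inv', ← hq]
      exact hqd
  -- concentration
  let e : P → ℤ := fun q => if D.I q c then r q - D.lam else 0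
  have he : ∀ q, 0 ≤ e q := by
    intro q
    simp only [e]
    split
    · next hq => linarith [hbound q hq]
    · rfl
  have hoff : ∀ q, ¬ D.I q c → r q = D.lam := fun q hq => by
    simp only [r]
    rw [D.ncard_fixed_through_moved h hq (hs q hq)]
  have he' : ∀ q, e q = r q - D.lam := by
    intro q
    simp only [e]
    split
    · rfl
    · next hq => rw [hoff q hq]; ring
  have hE1 : ∑ q, e q = (D.k : ℤ) - D.lam := by
    simp only [he', Finset.sum_sub_distrib, hS1, Finset.sum_const, Finset.card_univ, nsmul_eq_mul]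
    rw [← Nat.card_eq_fintype_card]
    linear_combination -D.param
  have hE2 : ∑ q, e q * e q = ((D.k : ℤ) - D.lam) * ((D.k : ℤ) - D.lam) := by
    have : ∀ q, e q * e q = r q * r q - 2 * (D.lam : ℤ) * r q + (D.lam : ℤ) * D.lam := fun q => by
      rw [he']; ring
    simp only [this, Finset.sum_add_distrib, Finset.sum_sub_distrib, hS2, ← Finset.mul_sum, hS1,
      Finset.sum_const, Finset.card_univ, nsmul_eq_mul]
    rw [← Nat.card_eq_fintype_card]
    linear_combination (D.lam : ℤ) * D.param
  have hle : ∀ q, e q ≤ (D.k : ℤ) - D.lam := fun q => by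
    rw [← hE1]
    exact Finset.single_le_sum (fun q _ => he q) (Finset.mem_univ q)
  have hzero : ∑ q, e q * ((D.k : ℤ) - D.lam - e q) = 0 := by
    simp only [mul_sub, Finset.sum_sub_distrib, ← Finset.sum_mul, hE1, hE2]
    ring
  obtain ⟨x, hx⟩ : ∃ x, e x ≠ 0 := by
    by_contra hc
    push_neg at hc
    simp only [hc, Finset.sum_const_zero] at hE1
    have := D.lam_lt
    omega
  have hxc : D.I x c := by
    by_contra hn
    exact hx (by simp [e, hn])
  refine ⟨x, hxc, ?_⟩
  have h3 := (Finset.sum_eq_zero_iff_of_nonneg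
    (fun q _ => mul_nonneg (he q) (by linarith [hle q]))).1 hzero x (Finset.mem_univ _)
  have h4 : r x = D.k := by
    rcases mul_eq_zero.1 h3 with h3 | h3
    · exact absurd h3 hx
    · have := he' x; linarith
  intro d hd
  have heq : {d : B | g • d = d ∧ D.I x d} = {d | D.I x d} :=
    Set.eq_of_subset_of_ncard_le (fun d hd => hd.2)
      (by rw [D.card_blks]; simp only [r] at h4; omega) (Set.toFinite _)
  exact ((Set.ext_iff.1 heq d).2 hd).1

end Des

end Cfsg.Agent.CG26.Ito
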