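import Mathlib

/-!
# The kernel of a spatial partition of a finite abelian group is a field
-/

set_option autoImplicit false
set_option linter.unusedSectionVars false

namespace Cfsg.Agent.CG26.Ito

/-- A partition of an abelian group into subgroups of order `q` behaving like the lines through
the origin of a vector space of dimension at least three. -/
structure Spread (N ι : Type*) [AddCommGroup N] where
  /-- the components -/
  Z : ι → AddSubgroup N
  /-- their common order -/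
  q : ℕ
  two_le : 2 ≤ q
  card : ∀ i, Nat.card (Z i) = q
  cover : ∀ t : N, ∃ i, t ∈ Z i
  inf : ∀ i j, i ≠ j → ∀ t, t ∈ Z i → t ∈ Z j → t = 0
  plane : ∀ i j l, i ≠ j → ∀ w, w ≠ 0 → w ∈ Z i ⊔ Z j → w ∈ Z l → Z l ≤ Z i ⊔ Z j
  space : ∀ i j, ∃ l, ¬ Z l ≤ Z i ⊔ Z j

namespace Spread

variable {N ι : Type*} [AddCommGroup N] [Finite N] (S : Spread N ι)

include S

theorem exists_ne_zero (i : ι) : ∃ t, t ∈ S.Z i ∧ t ≠ 0 := by
  by_contra h
  push_neg at h
  have : Subsingleton (S.Z i) :=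
    ⟨fun a b => Subtype.ext ((h a.1 a.2).trans (h b.1 b.2).symm)⟩
  have h1 : Nat.card (S.Z i) ≤ 1 := Finite.card_le_one_iff_subsingleton.2 this
  have := S.two_le
  rw [S.card] at h1
  omega

theorem eq_of_mem {i j : ι} {t : N} (ht : t ≠ 0) (hi : t ∈ S.Z i) (hj : t ∈ S.Z j) : i = j := by
  by_contra h
  exact ht (S.inf i j h t hi hj)

theorem card_sup {i j : ι} (h : i ≠ j) : Nat.card ↥(S.Z i ⊔ S.Z j) = S.q * S.q := by
  have e : Nat.card ↥(S.Z i ⊔ S.Z j) = Nat.card (S.Z i × S.Z j) := by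
    refine (Nat.card_congr (Equiv.ofBijective
      (fun p : S.Z i × S.Z j => (⟨p.1.1 + p.2.1, AddSubgroup.add_mem_sup p.1.2 p.2.2⟩ :
        ↥(S.Z i ⊔ S.Z j))) ⟨fun p p' e => ?_, fun t => ?_⟩)).symm
    · have e' : p.1.1 + p.2.1 = p'.1.1 + p'.2.1 := congrArg Subtype.val e
      have h1 : p.1.1 - p'.1.1 = p'.2.1 - p.2.1 := by
        rw [sub_eq_sub_iff_add_eq_add, e', add_comm]
      have h0 := S.inf i j h _ (sub_mem p.1.2 p'.1.2) (h1 ▸ sub_mem p'.2.2 p.2.2)
      refine Prod.ext (Subtype.ext (sub_eq_zero.1 h0)) (Subtype.ext ?_)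
      rw [h0] at h1
      exact (sub_eq_zero.1 h1.symm).symm
    · obtain ⟨a, ha, b, hb, hab⟩ := AddSubgroup.mem_sup.1 t.2
      exact ⟨(⟨a, ha⟩, ⟨b, hb⟩), Subtype.ext hab⟩
  rw [e, Nat.card_prod, S.card, S.card]

/-- Two components in a plane span it. -/
theorem sup_eq {i j k l : ι} (hij : i ≠ j) (hkl : k ≠ l) (hk : S.Z k ≤ S.Z i ⊔ S.Z j)
    (hl : S.Z l ≤ S.Z i ⊔ S.Z j) : S.Z k ⊔ S.Z l = S.Z i ⊔ S.Z j := by
  refine SetLike.coe_injective (Set.eq_of_subset_of_ncard_le (SetLike.coe_subset_coe.2 (sup_le hk hl))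
    ?_ (Set.toFinite _))
  rw [← Nat.card_coe_set_eq, ← Nat.card_coe_set_eq]
  exact le_of_eq ((S.card_sup hij).trans (S.card_sup hkl).symm)

/-- Distinct planes through a component meet in it. -/
theorem plane_inter {i j i' j' w : ι} {v t : N} (hij : i ≠ j) (hij' : i' ≠ j')
    (hne : S.Z i ⊔ S.Z j ≠ S.Z i' ⊔ S.Z j') (ht : t ≠ 0) (htw : t ∈ S.Z w)
    (ht1 : t ∈ S.Z i ⊔ S.Z j) (ht2 : t ∈ S.Z i' ⊔ S.Z j') (hv1 : v ∈ S.Z i ⊔ S.Z j)
    (hv2 : v ∈ S.Z i' ⊔ S.Z j') : v ∈ S.Z w := by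
  by_cases hv : v = 0
  · rw [hv]; exact zero_mem _
  obtain ⟨u, hu⟩ := S.cover v
  by_contra hvw
  have hwu : w ≠ u := fun e => hvw (e ▸ hu)
  exact hne ((S.sup_eq hij hwu (S.plane i j w hij t ht ht1 htw) (S.plane i j u hij v hv hv1 hu)).symm.trans
    (S.sup_eq hij' hwu (S.plane i' j' w hij' t ht ht2 htw) (S.plane i' j' u hij' v hv hv2 hu)))

theorem card_ge : 2 * (S.q * S.q) ≤ Nat.card N := by
  obtain ⟨i, -⟩ := S.cover 0
  obtain ⟨j, hj⟩ := S.space i i
  have hij : i ≠ j := fun e => hj (e ▸ le_sup_left)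
  obtain ⟨l, hl⟩ := S.space i j
  obtain ⟨d, hd⟩ := (S.Z i ⊔ S.Z j).card_addSubgroup_dvd_card
  have hlt : Nat.card ↥(S.Z i ⊔ S.Z j) ≠ Nat.card N := fun e =>
    hl ((AddSubgroup.card_eq_iff_eq_top _).1 e ▸ le_top)
  rw [← S.card_sup hij, hd, mul_comm 2]
  refine Nat.mul_le_mul_left _ ?_
  rcases d with - | - | d
  · have : 0 < Nat.card N := Nat.card_pos
    omega
  · exact absurd (by rw [hd, zero_add, mul_one]) hlt
  · omega

/-- Three translates of a component do not cover everything. -/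
theorem exists_avoid (i : ι) (t₁ t₂ t₃ : N) :
    ∃ w, w + t₁ ∉ S.Z i ∧ w + t₂ ∉ S.Z i ∧ w + t₃ ∉ S.Z i := by
  by_contra hc
  push_neg at hc
  have hsub : (Set.univ : Set N) ⊆ (fun z => z - t₁) '' (S.Z i : Set N) ∪
      (fun z => z - t₂) '' (S.Z i : Set N) ∪ (fun z => z - t₃) '' (S.Z i : Set N) := by
    intro w _
    by_cases h1 : w + t₁ ∈ S.Z i
    · exact Or.inl (Or.inl ⟨_, h1, by simp⟩)
    by_cases h2 : w + t₂ ∈ S.Z i
    · exact Or.inl (Or.inr ⟨_, h2, by simp⟩)
    exact Or.inr ⟨_, hc w h1 h2, by simp⟩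
  have h := Set.ncard_le_ncard hsub (Set.toFinite _)
  have hb : ∀ t : N, ((fun z => z - t) '' (S.Z i : Set N)).ncard = S.q := fun t => by
    rw [Set.ncard_image_of_injective _ fun a b e => sub_left_injective e, ← Nat.card_coe_set_eq]
    exact S.card i
  have h1 := Set.ncard_union_le ((fun z => z - t₁) '' (S.Z i : Set N) ∪
    (fun z => z - t₂) '' (S.Z i : Set N)) ((fun z => z - t₃) '' (S.Z i : Set N))
  have h2 := Set.ncard_union_le ((fun z => z - t₁) '' (S.Z i : Set N))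
    ((fun z => z - t₂) '' (S.Z i : Set N))
  rw [Set.ncard_univ] at h
  rw [hb, hb] at h2
  rw [hb] at h1
  have h3 := S.card_ge
  have h4 := S.two_le
  have h5 : 2 * S.q ≤ S.q * S.q := Nat.mul_le_mul_right _ h4
  omega

section Dilatation

variable {i : ι} {a b : N} (hai : a ∈ S.Z i) (ha : a ≠ 0) (hbi : b ∈ S.Z i)

include hai ha hbi

theorem exists_image {x : N} (hx : x ∉ S.Z i) :
    ∃ v, ∀ j m, x ∈ S.Z j → x - a ∈ S.Z m → v ∈ S.Z j ∧ v - b ∈ S.Z m ∧
      ∀ v', v' ∈ S.Z j → v' - b ∈ S.Z m → v' = v := by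
  have hx0 : x ≠ 0 := fun e => hx (e ▸ zero_mem _)
  obtain ⟨j, hj⟩ := S.cover x
  obtain ⟨m, hm⟩ := S.cover (x - a)
  have hij : i ≠ j := fun e => hx (e ▸ hj)
  have hxa : x - a ≠ 0 := fun e => hx (by rw [sub_eq_zero.1 e]; exact hai)
  have hjm : j ≠ m := by
    intro e
    subst e
    have : a ∈ S.Z j := by simpa using sub_mem hj hm
    exact hij (S.eq_of_mem ha hai this)
  have hmle : S.Z m ≤ S.Z i ⊔ S.Z j := S.plane i j m hij _ hxa
    (sub_mem (AddSubgroup.mem_sup_right hj) (AddSubgroup.mem_sup_left hai)) hm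
  have heq := S.sup_eq hij hjm le_sup_right hmle
  have hb : b ∈ S.Z j ⊔ S.Z m := heq ▸ AddSubgroup.mem_sup_left hbi
  obtain ⟨v, hv, r, hr, hvr⟩ := AddSubgroup.mem_sup.1 hb
  refine ⟨v, fun j' m' hj' hm' => ?_⟩
  obtain rfl := S.eq_of_mem hx0 hj hj'
  obtain rfl := S.eq_of_mem hxa hm hm'
  refine ⟨hv, ?_, fun v' h1 h2 => ?_⟩
  · rw [← hvr]; simpa using neg_mem hr
  · refine sub_eq_zero.1 (S.inf j m hjm _ (sub_mem h1 hv) ?_)
    have e : v' - v = (v' - b) + r := by rw [← hvr]; abel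
    rw [e]
    exact add_mem h2 hr

/-- The image of a point under the dilatation taking `a` to `b`. -/
noncomputable def img (x : N) : N :=
  open Classical in
  if hx : x ∉ S.Z i then (S.exists_image hai ha hbi hx).choose else 0

theorem img_spec {x : N} (hx : x ∉ S.Z i) {j m : ι} (hj : x ∈ S.Z j) (hm : x - a ∈ S.Z m) :
    S.img hai ha hbi x ∈ S.Z j ∧ S.img hai ha hbi x - b ∈ S.Z m ∧
      ∀ v', v' ∈ S.Z j → v' - b ∈ S.Z m → v' = S.img hai ha hbi x := by
  rw [img, dif_pos hx]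
  exact (S.exists_image hai ha hbi hx).choose_spec j m hj hm

theorem img_sub {x y : N} (hx : x ∉ S.Z i) {j : ι} (hj : x ∈ S.Z j)
    (hy : y ∉ S.Z i ⊔ S.Z j) :
    S.img hai ha hbi (x - y) = S.img hai ha hbi x - S.img hai ha hbi y := by
  set φ := S.img hai ha hbi
  have hij : i ≠ j := fun e => hx (e ▸ hj)
  have hy' : y ∉ S.Z i := fun h => hy (AddSubgroup.mem_sup_left h)
  have hw : x - y ∉ S.Z i := fun h => hy (by
    have := sub_mem (AddSubgroup.mem_sup_right (S := S.Z i) hj)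
      (AddSubgroup.mem_sup_left (T := S.Z j) h)
    simpa using this)
  have hw0 : x - y ≠ 0 := fun e => hw (e ▸ zero_mem _)
  have hy0 : y ≠ 0 := fun e => hy' (e ▸ zero_mem _)
  obtain ⟨jy, hjy⟩ := S.cover y
  obtain ⟨w, hwm⟩ := S.cover (x - y)
  obtain ⟨m, hm⟩ := S.cover (x - a)
  obtain ⟨my, hmy⟩ := S.cover (y - a)
  obtain ⟨mw, hmw⟩ := S.cover (x - y - a)
  obtain ⟨sx1, sx2, -⟩ := S.img_spec hai ha hbi hx hj hm
  obtain ⟨sy1, sy2, -⟩ := S.img_spec hai ha hbi hy' hjy hmy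
  obtain ⟨-, -, sw3⟩ := S.img_spec hai ha hbi hw hwm hmw
  have hjjy : j ≠ jy := fun e => hy (AddSubgroup.mem_sup_right (e ▸ hjy))
  have hxa : x - a ≠ 0 := fun e => hx (by rw [sub_eq_zero.1 e]; exact hai)
  have hmmy : m ≠ my := by
    intro e
    subst e
    have h1 : x - y ∈ S.Z m := by simpa using sub_mem hm hmy
    have h2 := S.eq_of_mem hw0 hwm h1
    subst h2
    have hjw : j ≠ w := by
      intro e2
      subst e2
      exact hy (AddSubgroup.mem_sup_right (by simpa using sub_mem hj hwm))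
    have hwle : S.Z w ≤ S.Z i ⊔ S.Z j := S.plane i j w hij _ hxa
      (sub_mem (AddSubgroup.mem_sup_right hj) (AddSubgroup.mem_sup_left hai)) hm
    exact hy (by simpa using sub_mem (AddSubgroup.mem_sup_right (S := S.Z i) hj) (hwle hwm))
  have hiw : i ≠ w := fun e => hw (e ▸ hwm)
  -- the difference is on the component of the difference
  have hv : φ x - φ y ∈ S.Z w := by
    refine S.plane_inter hjjy hmmy ?_ hw0 hwm
      (sub_mem (AddSubgroup.mem_sup_left hj) (AddSubgroup.mem_sup_right hjy)) ?_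
      (sub_mem (AddSubgroup.mem_sup_left sx1) (AddSubgroup.mem_sup_right sy1)) ?_
    · intro e
      have hxP : x ∈ S.Z j ⊔ S.Z jy := AddSubgroup.mem_sup_left hj
      have hxaP : x - a ∈ S.Z j ⊔ S.Z jy := e ▸ AddSubgroup.mem_sup_left hm
      have haP : a ∈ S.Z j ⊔ S.Z jy := by simpa using sub_mem hxP hxaP
      have := S.sup_eq hjjy hij (S.plane j jy i hjjy a ha haP hai) le_sup_left
      exact hy (this ▸ AddSubgroup.mem_sup_right hjy)
    · have := sub_mem (AddSubgroup.mem_sup_left (T := S.Z my) hm)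
        (AddSubgroup.mem_sup_right (S := S.Z m) hmy)
      simpa using this
    · have := sub_mem (AddSubgroup.mem_sup_left (T := S.Z my) sx2)
        (AddSubgroup.mem_sup_right (S := S.Z m) sy2)
      simpa using this
  refine (sw3 _ hv ?_).symm
  have hmjy : m ≠ jy := by
    intro e
    subst e
    exact hy (S.plane i j m hij _ hxa
      (sub_mem (AddSubgroup.mem_sup_right hj) (AddSubgroup.mem_sup_left hai)) hm hjy)
  refine S.plane_inter hmjy hiw ?_
    (fun e => hw (by rw [sub_eq_zero.1 e]; exact hai)) hmw ?_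
    (sub_mem (AddSubgroup.mem_sup_right hwm) (AddSubgroup.mem_sup_left hai)) ?_
    (sub_mem (AddSubgroup.mem_sup_right hv) (AddSubgroup.mem_sup_left hbi))
  · intro e
    have hxP : x ∈ S.Z i ⊔ S.Z w := by
      have h1 : x - a ∈ S.Z i ⊔ S.Z w := e ▸ AddSubgroup.mem_sup_left hm
      simpa using add_mem h1 (AddSubgroup.mem_sup_left hai)
    have := S.sup_eq hiw hij le_sup_left (S.plane i w j hiw x (fun e => hx (e ▸ zero_mem _)) hxP hj)
    have hyP : y ∈ S.Z i ⊔ S.Z w := e ▸ AddSubgroup.mem_sup_right hjy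
    exact hy (this ▸ hyP)
  · have h := sub_mem (AddSubgroup.mem_sup_left (T := S.Z jy) hm)
      (AddSubgroup.mem_sup_right (S := S.Z m) hjy)
    have e : x - a - y = x - y - a := by abel
    rwa [e] at h
  · have h := sub_mem (AddSubgroup.mem_sup_left (T := S.Z jy) sx2)
      (AddSubgroup.mem_sup_right (S := S.Z m) sy1)
    have e : φ x - b - φ y = φ x - φ y - b := by abel
    rwa [e] at h

theorem img_add_indep {x y : N} {l : ι} (hl : x + y ∈ S.Z l) (h : x + y ∉ S.Z i)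
    (hy : y ∉ S.Z i ⊔ S.Z l) :
    S.img hai ha hbi (x + y) = S.img hai ha hbi x + S.img hai ha hbi y := by
  have := S.img_sub hai ha hbi h hl hy
  rw [add_sub_cancel_right] at this
  rw [this, sub_add_cancel]

theorem img_add {x y : N} (hx : x ∉ S.Z i) (hy : y ∉ S.Z i) (hxy : x + y ∉ S.Z i) :
    S.img hai ha hbi (x + y) = S.img hai ha hbi x + S.img hai ha hbi y := by
  set φ := S.img hai ha hbi
  obtain ⟨l, hl⟩ := S.cover (x + y)
  by_cases hyl : y ∈ S.Z i ⊔ S.Z l
  swap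
  · exact S.img_add_indep hai ha hbi hl hxy hyl
  have hil : i ≠ l := fun e => hxy (e ▸ hl)
  have hxl : x ∈ S.Z i ⊔ S.Z l := by
    simpa using sub_mem (AddSubgroup.mem_sup_right (S := S.Z i) hl) hyl
  obtain ⟨n, hn⟩ := S.space i l
  obtain ⟨w, hwn, hw⟩ : ∃ w, w ∈ S.Z n ∧ w ∉ S.Z i ⊔ S.Z l := SetLike.not_le_iff_exists.1 hn
  -- adding a vector outside the plane
  have key : ∀ u, u ∈ S.Z i ⊔ S.Z l → u ∉ S.Z i → φ (u + w) = φ u + φ w := by
    intro u hu hu'
    have hu0 : u ≠ 0 := fun e => hu' (e ▸ zero_mem _)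
    obtain ⟨o, ho⟩ := S.cover (u + w)
    have huw : u + w ∉ S.Z i := fun h => hw (by
      simpa using sub_mem (AddSubgroup.mem_sup_left (T := S.Z l) h) hu)
    refine S.img_add_indep hai ha hbi ho huw fun h => hw ?_
    have hio : i ≠ o := fun e => huw (e ▸ ho)
    have hu2 : u ∈ S.Z i ⊔ S.Z o := by
      simpa using sub_mem (AddSubgroup.mem_sup_right (S := S.Z i) ho) h
    obtain ⟨o', ho'⟩ := S.cover u
    have hio' : i ≠ o' := fun e => hu' (e ▸ ho')
    have e1 := S.sup_eq hio hio' le_sup_left (S.plane i o o' hio u hu0 hu2 ho')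
    have e2 := S.sup_eq hil hio' le_sup_left (S.plane i l o' hil u hu0 hu ho')
    rw [← e2, e1]
    exact h
  have h1 : φ (x + y + w) = φ (x + y) + φ w := key _ (add_mem hxl hyl) hxy
  have h2 : φ (y + w) = φ y + φ w := key _ hyl hy
  have h3 : φ (x + y + w) = φ x + φ (y + w) := by
    obtain ⟨o, ho⟩ := S.cover (x + y + w)
    have hne : x + y + w ∉ S.Z i := fun h => hw (by
      simpa using sub_mem (AddSubgroup.mem_sup_left (T := S.Z l) h) (add_mem hxl hyl))
    rw [add_assoc] at ho hne ⊢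
    refine S.img_add_indep hai ha hbi ho hne fun h => hw ?_
    have hio : i ≠ o := fun e => hne (e ▸ ho)
    have hx2 : x ∈ S.Z i ⊔ S.Z o := by
      simpa using sub_mem (AddSubgroup.mem_sup_right (S := S.Z i) ho) h
    have hx0 : x ≠ 0 := fun e => hx (e ▸ zero_mem _)
    obtain ⟨o', ho'⟩ := S.cover x
    have hio' : i ≠ o' := fun e => hx (e ▸ ho')
    have e1 := S.sup_eq hio hio' le_sup_left (S.plane i o o' hio x hx0 hx2 ho')
    have e2 := S.sup_eq hil hio' le_sup_left (S.plane i l o' hil x hx0 hxl ho')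
    have h4 : y + w ∈ S.Z i ⊔ S.Z l := by rw [← e2, e1]; exact h
    simpa using sub_mem h4 hyl
  have := h1.symm.trans (h3.trans (by rw [h2]))
  rw [← add_assoc] at this
  exact add_right_cancel this

/-- **There is a component-preserving endomorphism taking `a` to `b`.** -/
theorem exists_dilatation :
    ∃ φ : AddMonoid.End N, (∀ l, ∀ t ∈ S.Z l, φ t ∈ S.Z l) ∧ φ a = b := by
  classical
  set f := S.img hai ha hbi with hf
  have hout : ∀ t, ∃ w, w ∉ S.Z i ∧ t + w ∉ S.Z i := by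
    intro t
    obtain ⟨w, h1, h2, -⟩ := S.exists_avoid i 0 t t
    exact ⟨w, by simpa using h1, by rwa [add_comm]⟩
  have key : ∀ t w w', w ∉ S.Z i → t + w ∉ S.Z i → w' ∉ S.Z i → t + w' ∉ S.Z i →
      w' - w ∉ S.Z i → f (t + w) - f w = f (t + w') - f w' := by
    intro t w w' hw htw hw' htw' hd
    have h1 := S.img_add hai ha hbi hw hd (by rwa [add_sub_cancel])
    have h2 := S.img_add hai ha hbi htw hd (by
      rwa [show t + w + (w' - w) = t + w' by abel])
    rw [add_sub_cancel] at h1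
    rw [show t + w + (w' - w) = t + w' by abel] at h2
    rw [hf, h1, h2]
    abel
  have hwd : ∀ t w w', w ∉ S.Z i → t + w ∉ S.Z i → w' ∉ S.Z i → t + w' ∉ S.Z i →
      f (t + w) - f w = f (t + w') - f w' := by
    intro t w w' hw htw hw' htw'
    by_cases hd : w' - w ∈ S.Z i
    swap
    · exact key t w w' hw htw hw' htw' hd
    obtain ⟨u, hu1, hu2, hu3⟩ := S.exists_avoid i 0 t (-w)
    rw [add_zero] at hu1
    rw [add_comm] at hu2
    rw [← sub_eq_add_neg] at hu3
    have hu4 : u - w' ∉ S.Z i := fun h => hu3 (by simpa using add_mem h hd)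
    exact (key t w u hw htw hu1 hu2 hu3).trans (key t w' u hw' htw' hu1 hu2 hu4).symm
  choose W hW1 hW2 using hout
  let Φ : N → N := fun t => f (t + W t) - f (W t)
  have hΦ : ∀ t w, w ∉ S.Z i → t + w ∉ S.Z i → Φ t = f (t + w) - f w :=
    fun t w h1 h2 => hwd t (W t) w (hW1 t) (hW2 t) h1 h2
  have hadd : ∀ t t', Φ (t + t') = Φ t + Φ t' := by
    intro t t'
    obtain ⟨w, hw, hw', hw''⟩ := S.exists_avoid i 0 t' (t + t')
    rw [add_zero] at hw
    rw [add_comm] at hw' hw''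
    rw [hΦ (t + t') w hw hw'', hΦ t' w hw hw', hΦ t (t' + w) hw' (by rwa [← add_assoc]),
      add_assoc t t' w]
    abel
  let Φh : AddMonoid.End N := AddMonoidHom.mk' Φ hadd
  have hoff : ∀ x, x ∉ S.Z i → Φ x = f x := by
    intro x hx
    obtain ⟨w, hw1, hw2, -⟩ := S.exists_avoid i 0 x x
    rw [add_zero] at hw1
    rw [add_comm] at hw2
    rw [hΦ x w hw1 hw2, hf, S.img_add hai ha hbi hx hw1 hw2, add_sub_cancel_right]
  have hpres : ∀ l t, t ∈ S.Z l → Φ t ∈ S.Z l := by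
    intro l t htl
    by_cases hli : l = i
    swap
    · by_cases ht : t = 0
      · subst ht
        rw [show Φ 0 = 0 from map_zero Φh]
        exact zero_mem _
      have hti : t ∉ S.Z i := fun h => hli (S.eq_of_mem ht htl h)
      obtain ⟨m, hm⟩ := S.cover (t - a)
      rw [hoff t hti]
      exact (S.img_spec hai ha hbi hti htl hm).1
    subst hli
    obtain ⟨n, hn⟩ := S.space l l
    obtain ⟨n', hn'⟩ := S.space l n
    have hln : l ≠ n := fun e => hn (e ▸ le_sup_left)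
    have hln' : l ≠ n' := fun e => hn' (e ▸ le_sup_left)
    have step : ∀ m, l ≠ m → Φ t ∈ S.Z l ⊔ S.Z m := by
      intro m hlm
      obtain ⟨v, hv, hv0⟩ := S.exists_ne_zero m
      have hvl : v ∉ S.Z l := fun h => hlm (S.eq_of_mem hv0 h hv)
      have htv : t + v ∉ S.Z l := fun h => hvl (by simpa using sub_mem h htl)
      rw [hΦ t v hvl htv]
      obtain ⟨o, ho⟩ := S.cover (t + v)
      obtain ⟨o', ho'⟩ := S.cover (t + v - a)
      obtain ⟨o'', ho''⟩ := S.cover (v - a)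
      refine sub_mem ?_ (AddSubgroup.mem_sup_right (S.img_spec hai ha hbi hvl hv ho'').1)
      exact S.plane l m o hlm (t + v) (fun e => htv (e ▸ zero_mem _))
        (add_mem (AddSubgroup.mem_sup_left htl) (AddSubgroup.mem_sup_right hv)) ho
        (S.img_spec hai ha hbi htv ho ho').1
    refine S.plane_inter hln hln' (fun e => hn' ?_) ha hai (AddSubgroup.mem_sup_left hai)
      (AddSubgroup.mem_sup_left hai) (step n hln) (step n' hln')
    rw [e]
    exact le_sup_right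
  refine ⟨Φh, hpres, ?_⟩
  show Φ a = b
  obtain ⟨n, hn⟩ := S.space i i
  have hin : i ≠ n := fun e => hn (e ▸ le_sup_left)
  obtain ⟨w, hwn, hw0⟩ := S.exists_ne_zero n
  have hwi : w ∉ S.Z i := fun h => hin (S.eq_of_mem hw0 h hwn)
  have haw : a + w ∉ S.Z i := fun h => hwi (by simpa using sub_mem h hai)
  obtain ⟨o, ho⟩ := S.cover (a + w)
  obtain ⟨m, hm⟩ := S.cover (w - a)
  have h1 := S.img_spec hai ha hbi haw ho (m := n) (by rwa [add_sub_cancel_left])
  have h2 := S.img_spec hai ha hbi hwi hwn hm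
  have h3 : Φ a - b ∈ S.Z n := by
    rw [hΦ a w hwi haw, show f (a + w) - f w - b = f (a + w) - b - f w by abel]
    exact sub_mem h1.2.1 h2.1
  exact sub_eq_zero.1 (S.inf i n hin _ (sub_mem (hpres i a hai) hbi) h3)

end Dilatation

/-- **The kernel is a field transitive on each component.** -/
theorem exists_field : ∃ (F : Type) (_ : Field F) (_ : Fintype F) (κ : F →+* AddMonoid.End N),
    Fintype.card F = S.q ∧ (∀ f : F, ∀ l, ∀ t ∈ S.Z l, κ f t ∈ S.Z l) ∧
      (∀ l a b, a ≠ 0 → a ∈ S.Z l → b ∈ S.Z l → ∃ f : F, κ f a = b) := by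
  classical
  let R : Subring (AddMonoid.End N) :=
    { carrier := {φ | ∀ l, ∀ t ∈ S.Z l, φ t ∈ S.Z l}
      mul_mem' := fun {φ ψ} h1 h2 l t ht => h1 l _ (h2 l t ht)
      one_mem' := fun l t ht => ht
      add_mem' := fun {φ ψ} h1 h2 l t ht => add_mem (h1 l t ht) (h2 l t ht)
      zero_mem' := fun l t _ => zero_mem _
      neg_mem' := fun {φ} h l t ht => neg_mem (h l t ht) }
  obtain ⟨i, -⟩ := S.cover 0
  obtain ⟨a, hai, ha⟩ := S.exists_ne_zero i
  -- an element killing a nonzero vector vanishes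
  have hinj : ∀ φ ∈ R, ∀ t, t ≠ 0 → φ t = 0 → φ = 0 := by
    intro φ hφ t ht h0
    obtain ⟨l, hl⟩ := S.cover t
    have h1 : ∀ x, x ∉ S.Z l → φ x = 0 := by
      intro x hx
      obtain ⟨m, hm⟩ := S.cover x
      obtain ⟨m', hm'⟩ := S.cover (x + t)
      have hxt : x + t ∉ S.Z l := fun h => hx (by simpa using sub_mem h hl)
      have hmm' : m ≠ m' := by
        intro e
        subst e
        have : t ∈ S.Z m := by simpa using sub_mem hm' hm
        exact hx (S.eq_of_mem ht hl this ▸ hm)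
      refine S.inf m m' hmm' _ (hφ m x hm) ?_
      have := hφ m' _ hm'
      rwa [map_add, h0, add_zero] at this
    refine AddMonoidHom.ext fun x => ?_
    obtain ⟨w, hw1, hw2, -⟩ := S.exists_avoid l 0 x x
    rw [add_zero] at hw1
    rw [add_comm] at hw2
    have := h1 _ hw2
    rw [map_add, h1 w hw1, add_zero] at this
    exact this
  have : Nontrivial R := by
    refine ⟨⟨0, 1, fun e => ha ?_⟩⟩
    exact (DFunLike.congr_fun (congrArg Subtype.val e) a).symm
  have : NoZeroDivisors R := ⟨fun {x y} h => by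
    by_cases hy : y.1 = 0
    · exact Or.inr (Subtype.ext hy)
    · refine Or.inl (Subtype.ext (hinj x.1 x.2 (y.1 a) (fun e => hy (hinj y.1 y.2 a ha e)) ?_))
      exact DFunLike.congr_fun (congrArg Subtype.val h) a⟩
  have : Finite (AddMonoid.End N) :=
    Finite.of_injective (fun φ : AddMonoid.End N => (φ : N → N)) DFunLike.coe_injective
  have : IsDomain R := NoZeroDivisors.to_isDomain R
  let _ : Field R := (Finite.isDomain_to_isField R).toField
  obtain ⟨F, _, _, ⟨re⟩⟩ : ∃ (F : Type) (_ : Field F) (_ : Fintype F), Nonempty (F ≃+* R) :=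
    ⟨Shrink.{0} R, inferInstance, Fintype.ofFinite _, ⟨(equivShrink.{0} R).symm.ringEquiv⟩⟩
  let κ : F →+* AddMonoid.End N := R.subtype.comp re.toRingHom
  have htr : ∀ l a b, a ≠ 0 → a ∈ S.Z l → b ∈ S.Z l → ∃ f : F, κ f a = b := by
    intro l a b ha hal hbl
    obtain ⟨φ, hφ, hφa⟩ := S.exists_dilatation hal ha hbl
    refine ⟨re.symm ⟨φ, hφ⟩, ?_⟩
    show (re (re.symm ⟨φ, hφ⟩)).1 a = b
    rw [RingEquiv.apply_symm_apply]
    exact hφa
  refine ⟨F, inferInstance, inferInstance, κ, ?_, fun f => (re f).2, htr⟩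
  rw [← Nat.card_eq_fintype_card, ← S.card i]
  refine Nat.card_congr (Equiv.ofBijective (fun f => (⟨κ f a, (re f).2 i a hai⟩ : S.Z i))
    ⟨fun f f' e => ?_, fun b => ?_⟩)
  · have e' : κ (f - f') a = 0 := by
      rw [map_sub]
      exact sub_eq_zero.2 (congrArg Subtype.val e)
    refine sub_eq_zero.1 (re.injective (Subtype.ext ?_))
    rw [map_zero]
    exact hinj _ (re (f - f')).2 a ha e'
  · obtain ⟨f, hf⟩ := htr i a b ha hai b.2
    exact ⟨f, Subtype.ext hf⟩

end Spread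

end Cfsg.Agent.CG26.Ito
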