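import Cfsg.Agent.CG26.Ito.Translations
import Cfsg.Agent.CG26.Ito.Spread

/-!
# Coordinates
-/

set_option autoImplicit false
set_option linter.unusedSectionVars false

namespace Cfsg.Agent.CG26.Ito

open scoped LinearAlgebra.Projectivization

variable {G P B : Type*} [Group G] [MulAction G P] [MulAction G B] [Fintype P] [Fintype B]
  [Finite G] (D : Des G P B)

/-- Blocks are the hyperplanes in these coordinates. -/
def IsCoord {F V : Type*} [Field F] [AddCommGroup V] [Module F V] (e : P ≃ ℙ F V) : Prop :=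
  (∀ c : B, ∃ f : V →ₗ[F] F, f ≠ 0 ∧ ∀ p, D.I p c ↔ f (e p).rep = 0) ∧
    ∀ f : V →ₗ[F] F, f ≠ 0 → ∃ c : B, ∀ p, D.I p c ↔ f (e p).rep = 0

theorem rep_zero_iff {F V : Type*} [Field F] [AddCommGroup V] [Module F V] (f : V →ₗ[F] F)
    {v : V} (hv : v ≠ 0) : f (Projectivization.mk F v hv).rep = 0 ↔ f v = 0 := by
  obtain ⟨a, ha⟩ := Projectivization.exists_smul_eq_mk_rep F v hv
  rw [← ha, Units.smul_def, map_smul, smul_eq_mul, mul_eq_zero]
  simp

theorem isCoord_trans {F V W : Type*} [Field F] [AddCommGroup V] [Module F V] [AddCommGroup W]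
    [Module F W] (L : V ≃ₗ[F] W) (e : P ≃ ℙ F V) (e' : P ≃ ℙ F W) (h : IsCoord D e)
    (he : ∀ p, e' p = (e p).map L.toLinearMap L.injective) : IsCoord D e' := by
  have key : ∀ (f : W →ₗ[F] F) p, f (e' p).rep = 0 ↔ (f.comp L.toLinearMap) (e p).rep = 0 := by
    intro f p
    rw [he]
    conv_lhs => rw [← Projectivization.mk_rep (e p), Projectivization.map_mk]
    rw [rep_zero_iff]
    rfl
  refine ⟨fun c => ?_, fun f hf => ?_⟩
  · obtain ⟨f, hf, hfc⟩ := h.1 c
    refine ⟨f.comp L.symm.toLinearMap, fun e => hf (LinearMap.ext fun v => ?_), fun p => ?_⟩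
    · simpa using LinearMap.congr_fun e (L v)
    · rw [key, hfc]
      simp
  · obtain ⟨c, hc⟩ := h.2 (f.comp L.toLinearMap) fun e => hf (LinearMap.ext fun w => by
      simpa using LinearMap.congr_fun e (L.symm w))
    exact ⟨c, fun p => by rw [key, hc]⟩

/-- It suffices that blocks are hyperplanes. -/
theorem isCoord_of_blocks {F V : Type*} [Field F] [Finite F] [AddCommGroup V] [Module F V]
    [Module.Finite F V] (e : P ≃ ℙ F V)
    (h : ∀ c : B, ∃ f : V →ₗ[F] F, f ≠ 0 ∧ ∀ p, D.I p c ↔ f (e p).rep = 0) : IsCoord D e := by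
  refine ⟨h, ?_⟩
  choose φ hφ hφc using h
  let Φ : B → ℙ F (V →ₗ[F] F) := fun c => Projectivization.mk F (φ c) (hφ c)
  have hinj : Function.Injective Φ := by
    intro c d e'
    obtain ⟨a, ha⟩ := (Projectivization.mk_eq_mk_iff' F _ _ _ _).1 e'
    refine D.blk_eq fun p hp => (hφc d p).2 ?_
    by_cases ha0 : a = 0
    · rw [ha0, zero_smul] at ha
      exact absurd ha.symm (hφ c)
    have := (hφc c p).1 hp
    rw [← ha, LinearMap.smul_apply, smul_eq_mul, mul_eq_zero] at this
    exact this.resolve_left ha0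
  have hfin : Finite V := Module.finite_of_finite F
  have : Finite (V →ₗ[F] F) := Module.finite_of_finite F
  have : Finite (ℙ F (V →ₗ[F] F)) := Quotient.finite _
  have hcard : Nat.card (ℙ F (V →ₗ[F] F)) = Nat.card B := by
    rw [← D.card_eq, Nat.card_congr e,
      Projectivization.card_of_finrank F _ (Subspace.dual_finrank_eq (K := F) (V := V)),
      Projectivization.card_of_finrank F _ rfl]
  have hsurj := ((Nat.bijective_iff_injective_and_card Φ).2 ⟨hinj, hcard.symm⟩).2
  intro f hf
  obtain ⟨c, hc⟩ := hsurj (Projectivization.mk F f hf)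
  obtain ⟨a, ha⟩ := (Projectivization.mk_eq_mk_iff' F _ _ _ _).1 hc
  refine ⟨c, fun p => ?_⟩
  have ha0 : a ≠ 0 := fun e => hφ c (by rw [← ha, e, zero_smul])
  rw [hφc c p, ← ha, LinearMap.smul_apply, smul_eq_mul, mul_eq_zero]
  simp [ha0]

theorem exists_coordinates (hA : D.HasAxial) (hlam : 2 ≤ D.lam) :
    ∃ (F : Type) (_ : Field F) (_ : Fintype F) (m : ℕ) (e : P ≃ ℙ F (Fin (m + 1) → F)),
      2 ≤ m ∧ IsCoord D e := by
  classical
  obtain ⟨c⟩ := D.nonempty_blks
  obtain ⟨p₀, hp₀⟩ := D.exists_not_mem c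
  let _ : CommGroup (D.T hA c) :=
    { (inferInstance : Group (D.T hA c)) with
      mul_comm := fun a b => Subtype.ext (Des.T_comm hA a.2 b.2) }
  let N := Additive (D.T hA c)
  let val : N → G := fun t => (Additive.toMul t).1
  have val_mem : ∀ t, val t ∈ D.T hA c := fun t => (Additive.toMul t).2
  have val_add : ∀ s t, val (s + t) = val s * val t := fun _ _ => rfl
  have val_inj : Function.Injective val := fun s t e =>
    Additive.toMul.injective (Subtype.ext e)
  have val_zero : val 0 = 1 := rfl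
  let mk : ∀ g : G, g ∈ D.T hA c → N := fun g hg => Additive.ofMul ⟨g, hg⟩
  let q := D.lineSize - 1
  let Z : {x : P // D.I x c} → AddSubgroup N := fun x =>
    ((D.Z c x).subgroupOf (D.T hA c)).toAddSubgroup
  have memZ : ∀ x t, t ∈ Z x ↔ val t ∈ D.Z c x := fun x t => Iff.rfl
  have hsup : ∀ i j (t : N), t ∈ Z i ⊔ Z j → i ≠ j → t ≠ 0 →
      ∃ w ∈ D.line i.1 j.1, val t ∈ D.Z c w := by
    intro i j t ht hij ht0
    obtain ⟨a, ha, b, hb, rfl⟩ := AddSubgroup.mem_sup.1 ht
    have h1 : val a * val b ≠ 1 := fun e => ht0 (val_inj (by rw [val_add, e, val_zero]))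
    obtain ⟨w, hw, hgw⟩ := D.mul_elation hA i.2 j.2 ha hb h1
    refine ⟨w, fun d hid hjd => (D.fixed_iff_centre hgw h1 hw d).1 ?_, hgw⟩
    show (val a * val b) • d = d
    rw [mul_smul, ((memZ j b).1 hb).2 d hjd, ((memZ i a).1 ha).2 d hid]
  have hq2 : 2 ≤ q := D.two_le_order hA
  let S : Spread N {x : P // D.I x c} :=
    { Z := Z
      q := q
      two_le := hq2
      card := fun x => by
        show Nat.card ((D.Z c x).subgroupOf (D.T hA c)) = q
        rw [Nat.card_congr (Subgroup.subgroupOfEquivOfLe (Des.Z_le_T hA x.2)).toEquiv]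
        exact D.card_Z hA x.2
      cover := fun t => by
        obtain ⟨x, hx, h⟩ := Des.T_centre hA (val_mem t)
        exact ⟨⟨x, hx⟩, h⟩
      inf := fun i j hij t hi hj => val_inj
        (D.Z_inf (fun e => hij (Subtype.ext e)) hi hj)
      plane := fun i j l hij w hw0 hw hwl t ht => by
        obtain ⟨w', hw', hgw'⟩ := hsup i j w hw hij hw0
        have e : l.1 = w' := by
          by_contra hne
          exact hw0 (val_inj (D.Z_inf hne hwl hgw'))
        obtain ⟨a, ha, b, hb, hab⟩ := D.line_decomp hA i.2 j.2 (fun e => hij (Subtype.ext e))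
          (e ▸ hw') ((memZ l t).1 ht)
        have : t = mk a (Des.Z_le_T hA i.2 ha) + mk b (Des.Z_le_T hA j.2 hb) := val_inj hab.symm
        rw [this]
        exact AddSubgroup.add_mem_sup ha hb
      space := fun i j => by
        have key : ∀ i j : {x : P // D.I x c}, i ≠ j → ∃ l, ¬ Z l ≤ Z i ⊔ Z j := by
          intro i j hij
          have hne : i.1 ≠ j.1 := fun e => hij (Subtype.ext e)
          obtain ⟨z, hzc, hzl⟩ : ∃ z, D.I z c ∧ z ∉ D.line i.1 j.1 := by
            by_contra hc
            push_neg at hc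
            have h1 : D.k ≤ D.lineSize := by
              rw [← D.card_pts c, ← D.ncard_line hne]
              exact Set.ncard_le_ncard (fun z hz => hc z hz) (Set.toFinite _)
            have h2 := D.k_eq hA
            have h3 := Nat.mul_le_mul_right (D.lineSize - 1) hlam
            have h4 := D.two_le_order hA
            omega
          refine ⟨⟨z, hzc⟩, fun hle => ?_⟩
          have h2 := D.two_le_card_Z hA hzc
          obtain ⟨g, hg, hg1⟩ : ∃ g ∈ D.Z c z, g ≠ 1 := by
            by_contra hc
            push_neg at hc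
            have : D.Z c z = ⊥ := (Subgroup.eq_bot_iff_forall _).2 hc
            rw [this, Subgroup.card_bot] at h2
            omega
          obtain ⟨w, hw, hgw⟩ := hsup i j _ (hle (show mk g (Des.Z_le_T hA hzc hg) ∈ Z ⟨z, hzc⟩
            from hg)) hij (fun e => hg1 (congrArg val e))
          exact hzl (by
            by_contra hne'
            exact hg1 (D.Z_inf (fun e => hne' (by rw [e]; exact hw)) hg hgw))
        by_cases hij : i = j
        · subst hij
          obtain ⟨j', hj', hne⟩ : ∃ j', D.I j' c ∧ j' ≠ i.1 :=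
            Set.exists_ne_of_one_lt_ncard (s := {p | D.I p c})
              (by rw [D.card_pts]; have := D.lam_lt; omega) i.1
          obtain ⟨l, hl⟩ := key i ⟨j', hj'⟩ (fun e => hne (congrArg Subtype.val e).symm)
          exact ⟨l, fun h => hl (le_trans h (sup_le le_sup_left le_sup_left))⟩
        · exact key i j hij }
  obtain ⟨F, _, _, κ, hFq, hpres, htr⟩ := S.exists_field
  let _ : Module F N := Module.compHom N κ
  have smul_def : ∀ (f : F) (t : N), f • t = κ f t := fun _ _ => rfl
  -- coordinates of the points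
  have hTp : ∀ p : P, ¬ D.I p c → ∃ t : N, val t • p₀ = p := by
    intro p hp
    obtain ⟨g, hg, hgp⟩ := D.exists_T_map hA hp₀ hp
    exact ⟨mk g hg, hgp⟩
  choose tp htp using hTp
  have hinjp : ∀ s t : N, val s • p₀ = val t • p₀ → s = t := by
    intro s t e
    refine val_inj (inv_mul_eq_one.1 (Des.T_semi hA ?_ hp₀ ?_)).symm
    · exact (D.T hA c).mul_mem ((D.T hA c).inv_mem (val_mem t)) (val_mem s)
    · rw [mul_smul, e, inv_smul_smul]
  choose bas hbas hbas0 using fun x => S.exists_ne_zero x
  let vec : P → N × F := fun p => if hp : D.I p c then (bas ⟨p, hp⟩, 0) else (tp p hp, 1)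
  have vec_in : ∀ p (hp : D.I p c), vec p = (bas ⟨p, hp⟩, 0) := fun p hp => dif_pos hp
  have vec_out : ∀ p (hp : ¬ D.I p c), vec p = (tp p hp, 1) := fun p hp => dif_neg hp
  have vec_ne : ∀ p, vec p ≠ 0 := by
    intro p e
    by_cases hp : D.I p c
    · rw [vec_in p hp] at e
      exact hbas0 _ (congrArg Prod.fst e)
    · rw [vec_out p hp] at e
      exact one_ne_zero (congrArg Prod.snd e)
  let ψ : P → ℙ F (N × F) := fun p => Projectivization.mk F (vec p) (vec_ne p)
  have ψinj : Function.Injective ψ := by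
    intro p r e
    obtain ⟨a, ha⟩ := (Projectivization.mk_eq_mk_iff' F _ _ _ _).1 e
    by_cases hp : D.I p c <;> by_cases hr : D.I r c
    · rw [vec_in p hp, vec_in r hr] at ha
      have h1 : a • bas ⟨r, hr⟩ = bas ⟨p, hp⟩ := congrArg Prod.fst ha
      have h2 : bas ⟨p, hp⟩ ∈ Z ⟨r, hr⟩ := by
        rw [← h1, smul_def]
        exact hpres a ⟨r, hr⟩ _ (hbas _)
      exact congrArg Subtype.val (S.eq_of_mem (hbas0 _) (hbas ⟨p, hp⟩) h2)
    · rw [vec_in p hp, vec_out r hr] at ha
      have h2 : a = 0 := by simpa using congrArg Prod.snd ha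
      have h1 : a • tp r hr = bas ⟨p, hp⟩ := congrArg Prod.fst ha
      rw [h2, zero_smul] at h1
      exact absurd h1.symm (hbas0 _)
    · rw [vec_out p hp, vec_in r hr] at ha
      simpa using congrArg Prod.snd ha
    · rw [vec_out p hp, vec_out r hr] at ha
      have h2 : a = 1 := by simpa using congrArg Prod.snd ha
      have h1 : a • tp r hr = tp p hp := congrArg Prod.fst ha
      rw [h2, one_smul] at h1
      rw [← htp p hp, ← htp r hr, h1]
  have ψsurj : Function.Surjective ψ := by
    intro v
    induction v using Projectivization.ind with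
    | _ v hv =>
      obtain ⟨t, s⟩ := v
      by_cases hs : s = 0
      · subst hs
        have ht : t ≠ 0 := fun e => hv (by rw [e]; rfl)
        obtain ⟨x, hx⟩ := S.cover t
        obtain ⟨f, hf⟩ := htr x t (bas x) ht hx (hbas x)
        refine ⟨x.1, (Projectivization.mk_eq_mk_iff' F _ _ _ _).2 ⟨f, ?_⟩⟩
        rw [vec_in x.1 x.2, Prod.smul_mk, smul_zero, smul_def, hf]
      · have hp : ¬ D.I (val (s⁻¹ • t) • p₀) c :=
          D.ax_off (Des.T_ax hA (val_mem _)) hp₀
        refine ⟨val (s⁻¹ • t) • p₀, (Projectivization.mk_eq_mk_iff' F _ _ _ _).2 ⟨s⁻¹, ?_⟩⟩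
        rw [vec_out _ hp, Prod.smul_mk, hinjp _ _ (htp _ hp), smul_eq_mul, inv_mul_cancel₀ hs]
  let e₀ : P ≃ ℙ F (N × F) := Equiv.ofBijective ψ ⟨ψinj, ψsurj⟩
  have : Module.Finite F N := Module.Finite.of_finite
  have hcardN : Nat.card N = 1 + D.k * (q - 1) :=
    (Nat.card_congr Additive.toMul).trans (D.card_T' hA c)
  have hk := D.k_eq hA
  have hblocks : ∀ d : B, ∃ f : (N × F) →ₗ[F] F, f ≠ 0 ∧ ∀ p, D.I p d ↔ f (e₀ p).rep = 0 := by
    intro d
    have key : ∀ (f : (N × F) →ₗ[F] F) p, f (e₀ p).rep = 0 ↔ f (vec p) = 0 :=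
      fun f p => rep_zero_iff f (vec_ne p)
    by_cases hdc : d = c
    · subst hdc
      refine ⟨LinearMap.snd F N F, fun e => ?_, fun p => ?_⟩
      · simpa using LinearMap.congr_fun e (0, 1)
      · rw [key]
        by_cases hp : D.I p d
        · simp [vec_in p hp, hp]
        · simp [vec_out p hp, hp]
    obtain ⟨p₁, hp₁d, hp₁c⟩ : ∃ p, D.I p d ∧ ¬ D.I p c := by
      by_contra hc
      push_neg at hc
      exact hdc (D.blk_eq hc)
    have hfix : ∀ (t : N) x, t ∈ Z x → t ≠ 0 → (val t • d = d ↔ D.I x.1 d) := fun t x ht h0 =>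
      D.fixed_iff_centre ht (fun e => h0 (val_inj e)) x.2 d
    let E : Submodule F N :=
      { carrier := {t | val t • d = d}
        add_mem' := fun {s t} hs ht => by
          show val (s + t) • d = d
          rw [val_add, mul_smul, ht, hs]
        zero_mem' := one_smul G d
        smul_mem' := fun f t ht => by
          show val (f • t) • d = d
          by_cases h0 : f • t = 0
          · rw [h0, val_zero, one_smul]
          have ht0 : t ≠ 0 := fun e => h0 (by rw [e, smul_zero])
          obtain ⟨x, hx⟩ := S.cover t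
          exact (hfix (f • t) x (hpres f x t hx) h0).2 ((hfix t x hx ht0).1 ht) }
    have hEc : Nat.card E = 1 + D.lam * (q - 1) := by
      obtain ⟨x, hx⟩ := D.exists_mem c
      have e : val '' ((E : Set N) \ {0}) =
          {g : G | g ≠ 1 ∧ ∃ x ∈ {x | D.I x c ∧ D.I x d}, g ∈ D.Z c x} := by
        ext g
        constructor
        · rintro ⟨t, ⟨ht, ht0⟩, rfl⟩
          have ht0' : t ≠ 0 := by simpa using ht0
          obtain ⟨x, hx⟩ := S.cover t
          exact ⟨fun e => ht0' (val_inj e), x.1, ⟨x.2, (hfix t x hx ht0').1 ht⟩, hx⟩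
        · rintro ⟨h1, x, hx, hgx⟩
          refine ⟨mk g (Des.Z_le_T hA hx.1 hgx), ⟨hgx.2 d hx.2, fun e => h1 ?_⟩, rfl⟩
          exact congrArg val (Set.mem_singleton_iff.1 e)
      have h1 := congrArg Set.ncard e
      rw [Set.ncard_image_of_injective _ val_inj,
        Set.ncard_sdiff_singleton_of_mem (show (0 : N) ∈ (E : Set N) from E.zero_mem),
        D.ncard_centred c x hx {x | D.I x c ∧ D.I x d} (fun x hx => hx.1),
        D.lam_pts c d (Ne.symm hdc), D.card_Z hA hx, ← Nat.card_coe_set_eq] at h1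
      have : 0 < Nat.card E := Nat.card_pos
      change Nat.card E - 1 = D.lam * (q - 1) at h1
      omega
    have hoff : {p : P | D.I p d ∧ ¬ D.I p c} = (fun t => val t • p₁) '' (E : Set N) := by
      refine (Set.eq_of_subset_of_ncard_le ?_ ?_ (Set.toFinite _)).symm
      · rintro _ ⟨t, ht, rfl⟩
        refine ⟨?_, D.ax_off (Des.T_ax hA (val_mem t)) hp₁c⟩
        have := (D.inv (val t) p₁ d).2 hp₁d
        rwa [show val t • d = d from ht] at this
      · rw [Set.ncard_image_of_injective _ fun s t e => ?_]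
        · have e : {p : P | D.I p d ∧ ¬ D.I p c} = {p | D.I p d} \ {p | D.I p c ∧ D.I p d} := by
            ext p; simp; tauto
          rw [e, Set.ncard_sdiff (fun p hp => hp.2) (Set.toFinite _), D.card_pts,
            D.lam_pts c d (Ne.symm hdc), ← Nat.card_coe_set_eq]
          change _ ≤ Nat.card E
          have hk' : D.k = 1 + D.lam * q := hk
          obtain ⟨j, hj⟩ : ∃ j, q = j + 1 := ⟨q - 1, by omega⟩
          rw [hEc, hk', hj, Nat.add_sub_cancel, Nat.mul_succ]
          omega
        · refine val_inj (inv_mul_eq_one.1 (Des.T_semi hA ?_ hp₁c ?_)).symm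
          · exact (D.T hA c).mul_mem ((D.T hA c).inv_mem (val_mem t)) (val_mem s)
          · rw [mul_smul, show val s • p₁ = val t • p₁ from e, inv_smul_smul]
    obtain ⟨z, hzc, hzd⟩ : ∃ z, D.I z c ∧ ¬ D.I z d := by
      by_contra hc
      push_neg at hc
      exact hdc (D.blk_eq hc).symm
    have hzE : bas ⟨z, hzc⟩ ∉ E := fun h => hzd ((hfix _ _ (hbas _) (hbas0 _)).1 h)
    obtain ⟨φ, hφz, hφE⟩ := E.exists_dual_map_eq_bot_of_notMem hzE inferInstance
    have hker : LinearMap.ker φ = E := by
      have hle : E ≤ LinearMap.ker φ := by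
        intro t ht
        have : φ t ∈ E.map φ := Submodule.mem_map_of_mem ht
        rwa [hφE, Submodule.mem_bot] at this
      have hrange : LinearMap.range φ = ⊤ := LinearMap.range_eq_top.2
        (LinearMap.surjective fun e => hφz (by rw [e]; rfl))
      refine (SetLike.coe_injective (Set.eq_of_subset_of_ncard_le (SetLike.coe_subset_coe.2 hle)
        ?_ (Set.toFinite _))).symm
      rw [← Nat.card_coe_set_eq, ← Nat.card_coe_set_eq]
      change Nat.card (LinearMap.ker φ) ≤ Nat.card E
      have h1 := (LinearMap.ker φ).card_eq_card_quotient_mul_card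
      rw [Nat.card_congr φ.quotKerEquivRange.toEquiv, hrange,
        Nat.card_congr Submodule.topEquiv.toEquiv, hcardN, Nat.card_eq_fintype_card (α := F),
        hFq] at h1
      change 1 + D.k * (q - 1) = _ * q at h1
      have h2 : 1 + D.k * (q - 1) = (1 + D.lam * (q - 1)) * q := by
        rw [hk]
        obtain ⟨j, hj⟩ : ∃ j, q = j + 2 := ⟨q - 2, by omega⟩
        rw [show D.lineSize - 1 = q from rfl, hj, show j + 2 - 1 = j + 1 by omega]
        ring
      rw [hEc]
      have h3 : 0 < q := by omega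
      refine le_of_eq (Nat.eq_of_mul_eq_mul_right h3 ?_)
      first | exact (h1.symm.trans h2) | (rw [← h2, h1]; ring)
    set t₁ := tp p₁ hp₁c with ht₁
    refine ⟨φ.comp (LinearMap.fst F N F) - (φ t₁) • LinearMap.snd F N F, fun e => ?_, fun p => ?_⟩
    · have := LinearMap.congr_fun e (bas ⟨z, hzc⟩, 0)
      simp at this
      exact hφz this
    rw [key]
    by_cases hp : D.I p c
    · rw [vec_in p hp]
      simp only [LinearMap.sub_apply, LinearMap.comp_apply, LinearMap.fst_apply,
        LinearMap.smul_apply, LinearMap.snd_apply, smul_zero, sub_zero]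
      rw [← LinearMap.mem_ker, hker]
      exact (hfix (bas ⟨p, hp⟩) ⟨p, hp⟩ (hbas _) (hbas0 _)).symm
    · rw [vec_out p hp]
      simp only [LinearMap.sub_apply, LinearMap.comp_apply, LinearMap.fst_apply,
        LinearMap.smul_apply, LinearMap.snd_apply, smul_eq_mul, mul_one]
      rw [← map_sub, ← LinearMap.mem_ker, hker]
      constructor
      · intro hpd
        have : p ∈ (fun t => val t • p₁) '' (E : Set N) := hoff ▸ ⟨hpd, hp⟩
        obtain ⟨t, ht, htp'⟩ := this
        have h1 : tp p hp = t + t₁ := hinjp _ _ (by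
          rw [htp, val_add, mul_smul, ht₁, htp]; exact htp'.symm)
        rwa [h1, add_sub_cancel_right]
      · intro hE'
        have h1 : val (tp p hp - t₁) • p₁ = p := by
          conv_lhs => rw [← htp p₁ hp₁c, ← mul_smul, ← ht₁, ← val_add, sub_add_cancel]
          exact htp p hp
        have : p ∈ {p : P | D.I p d ∧ ¬ D.I p c} := hoff ▸ ⟨_, hE', h1⟩
        exact this.1
  have hcoord := isCoord_of_blocks D e₀ hblocks
  set m := Module.finrank F N with hm
  let L : (N × F) ≃ₗ[F] (Fin (m + 1) → F) := LinearEquiv.ofFinrankEq _ _ (by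
    rw [Module.finrank_prod, Module.finrank_self, Module.finrank_fin_fun])
  let Lp : ℙ F (N × F) ≃ ℙ F (Fin (m + 1) → F) :=
    Equiv.ofBijective (Projectivization.map L.toLinearMap L.injective)
      ⟨Projectivization.map_injective _ L.injective, fun v => by
        induction v using Projectivization.ind with
        | _ v hv =>
          refine ⟨Projectivization.mk F (L.symm v) (fun e => hv (by simpa using congrArg L e)), ?_⟩
          rw [Projectivization.map_mk]
          simp⟩
  refine ⟨F, inferInstance, inferInstance, m, e₀.trans Lp, ?_,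
    isCoord_trans D L e₀ _ hcoord fun p => rfl⟩
  have h1 : Nat.card N = q ^ m := by
    have e : S.q = q := rfl
    rw [Module.natCard_eq_pow_finrank (K := F) (V := N), Nat.card_eq_fintype_card, hFq, e]
  by_contra hlt
  have h2 : q ^ m ≤ q ^ 1 := Nat.pow_le_pow_right (by omega) (by omega)
  rw [pow_one, ← h1, hcardN] at h2
  have h3 : 2 * (q - 1) ≤ D.k * (q - 1) := Nat.mul_le_mul_right _ (by have := D.lam_lt; omega)
  omega

end Cfsg.Agent.CG26.Ito
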