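import Mathlib

/-!
# Symmetric designs with a doubly transitive automorphism group
-/

set_option autoImplicit false
set_option linter.unusedSectionVars false

namespace Cfsg.Agent.CG26.Ito

open Finset

/-- A symmetric design with a group of automorphisms, doubly transitive on points and on blocks,
with transitive point and block stabilisers. -/
structure Des (G P B : Type*) [Group G] [MulAction G P] [MulAction G B] [Fintype P] [Fintype B]
    where
  /-- incidence -/
  I : P → B → Prop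
  /-- block size -/
  k : ℕ
  /-- intersection size -/
  lam : ℕ
  inv : ∀ (g : G) (p : P) (c : B), I (g • p) (g • c) ↔ I p c
  card_pts : ∀ c : B, {p : P | I p c}.ncard = k
  card_blks : ∀ p : P, {c : B | I p c}.ncard = k
  lam_blks : ∀ p q : P, p ≠ q → {c : B | I p c ∧ I q c}.ncard = lam
  lam_pts : ∀ c d : B, c ≠ d → {p : P | I p c ∧ I p d}.ncard = lam
  card_eq : Nat.card P = Nat.card B
  nonempty_pts : Nonempty P
  lam_pos : 1 ≤ lam
  lam_lt : lam + 2 ≤ k
  faithful : ∀ g : G, (∀ p : P, g • p = p) → g = 1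
  faithful_blks : ∀ g : G, (∀ c : B, g • c = c) → g = 1
  ttP : ∀ p q p' q' : P, p ≠ q → p' ≠ q' → ∃ g : G, g • p = p' ∧ g • q = q'
  ttB : ∀ c d c' d' : B, c ≠ d → c' ≠ d' → ∃ g : G, g • c = c' ∧ g • d = d'
  trIn : ∀ (c : B) (x y : P), I x c → I y c → ∃ g : G, g • c = c ∧ g • x = y
  trOut : ∀ (c : B) (x y : P), ¬ I x c → ¬ I y c → ∃ g : G, g • c = c ∧ g • x = y

section Counting

theorem ncard_eq_sum_ite {α : Type*} [Fintype α] (s : α → Prop) [DecidablePred s] :
    ({a : α | s a}.ncard : ℤ) = ∑ a, if s a then (1 : ℤ) else 0 := by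
  rw [Finset.sum_boole, Set.ncard_eq_toFinset_card', Set.toFinset_setOf]

end Counting

variable {G P B : Type*} [Group G] [MulAction G P] [MulAction G B] [Fintype P] [Fintype B]
  (D : Des G P B)

namespace Des

include D

theorem inv' (g : G) (p : P) (c : B) : D.I (g • p) c ↔ D.I p (g⁻¹ • c) := by
  conv_lhs => rw [← smul_inv_smul g c]
  exact D.inv g p (g⁻¹ • c)

theorem inv'' (g : G) (p : P) (c : B) : D.I p (g • c) ↔ D.I (g⁻¹ • p) c := by
  conv_lhs => rw [← smul_inv_smul g p]
  exact D.inv g (g⁻¹ • p) c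

theorem nonempty_blks : Nonempty B := by
  obtain ⟨p⟩ := D.nonempty_pts
  have h := D.card_blks p
  obtain ⟨c, -⟩ := Set.nonempty_of_ncard_ne_zero (s := {c : B | D.I p c})
    (by have := D.lam_lt; omega)
  exact ⟨c⟩

/-- The number of points is determined by the parameters. -/
theorem param : (D.lam : ℤ) * ((Nat.card P : ℤ) - 1) = (D.k : ℤ) * ((D.k : ℤ) - 1) := by
  classical
  obtain ⟨p⟩ := D.nonempty_pts
  have h1 : ∑ q : P, ∑ c : B, (if D.I p c ∧ D.I q c then (1 : ℤ) else 0) =
      (D.k : ℤ) * D.k := by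
    rw [Finset.sum_comm]
    calc ∑ c : B, ∑ q : P, (if D.I p c ∧ D.I q c then (1 : ℤ) else 0)
        = ∑ c : B, (if D.I p c then (D.k : ℤ) else 0) := by
          refine Finset.sum_congr rfl fun c _ => ?_
          by_cases h : D.I p c
          · simp only [h, true_and, if_true]
            rw [← ncard_eq_sum_ite, D.card_pts c]
          · simp [h]
      _ = (D.k : ℤ) * ∑ c : B, (if D.I p c then (1 : ℤ) else 0) := by
          rw [Finset.mul_sum]; simp
      _ = _ := by rw [← ncard_eq_sum_ite, D.card_blks p]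
  have h2 : ∀ q : P, ∑ c : B, (if D.I p c ∧ D.I q c then (1 : ℤ) else 0) =
      (D.lam : ℤ) + (if p = q then (D.k : ℤ) - D.lam else 0) := by
    intro q
    rw [← ncard_eq_sum_ite]
    by_cases h : p = q
    · subst h; simp [D.card_blks p]
    · simp [h, D.lam_blks p q h]
  simp only [h2, Finset.sum_add_distrib, Finset.sum_const, Finset.card_univ, Finset.sum_ite_eq,
    Finset.mem_univ, if_true, nsmul_eq_mul] at h1
  rw [Nat.card_eq_fintype_card]
  linear_combination h1

theorem k_lt : D.k + 2 ≤ Nat.card P := by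
  have h := D.param
  have h1 := D.lam_pos
  have h2 := D.lam_lt
  by_contra hv
  have hv' : (Nat.card P : ℤ) ≤ D.k + 1 := by exact_mod_cast (show Nat.card P ≤ D.k + 1 by omega)
  have h2' : (D.lam : ℤ) + 2 ≤ D.k := by exact_mod_cast h2
  have h1' : (1 : ℤ) ≤ D.lam := by exact_mod_cast h1
  nlinarith

/-- The number of points off a block times the intersection size. -/
theorem param' : ((D.k : ℤ) - 1) * ((D.k : ℤ) - D.lam) = D.lam * ((Nat.card P : ℤ) - D.k) := by
  linear_combination -D.param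

theorem exists_not_mem (c : B) : ∃ p : P, ¬ D.I p c := by
  by_contra h
  push_neg at h
  have := D.card_pts c
  have h' : {p : P | D.I p c} = Set.univ := Set.eq_univ_of_forall h
  rw [h', Set.ncard_univ] at this
  have := D.k_lt
  omega

theorem exists_mem (c : B) : ∃ p : P, D.I p c :=
  Set.nonempty_of_ncard_ne_zero (s := {p : P | D.I p c})
    (by rw [D.card_pts c]; have := D.lam_lt; omega)

theorem exists_ne_blk (c : B) : ∃ d : B, d ≠ c := by
  obtain ⟨p, hp⟩ := D.exists_not_mem c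
  obtain ⟨d, hd⟩ := Set.nonempty_of_ncard_ne_zero (s := {d : B | D.I p d})
    (by rw [D.card_blks p]; have := D.lam_lt; omega)
  exact ⟨d, fun h => hp (h ▸ hd)⟩

/-- A block is determined by its points. -/
theorem blk_eq {c d : B} (h : ∀ p, D.I p c → D.I p d) : c = d := by
  by_contra hne
  have h1 := D.lam_pts c d hne
  have h2 : {p : P | D.I p c ∧ D.I p d} = {p : P | D.I p c} :=
    Set.ext fun p => ⟨fun h' => h'.1, fun h' => ⟨h', h p h'⟩⟩
  rw [h2, D.card_pts c] at h1
  have := D.lam_lt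
  omega

/-- A point is determined by its blocks. -/
theorem pt_eq {p q : P} (h : ∀ c, D.I p c → D.I q c) : p = q := by
  by_contra hne
  have h1 := D.lam_blks p q hne
  have h2 : {c : B | D.I p c ∧ D.I q c} = {c : B | D.I p c} :=
    Set.ext fun p => ⟨fun h' => h'.1, fun h' => ⟨h', h p h'⟩⟩
  rw [h2, D.card_blks p] at h1
  have := D.lam_lt
  omega

theorem trP (p q : P) : ∃ g : G, g • p = q := by
  by_cases h : p = q
  · exact ⟨1, by rw [one_smul, h]⟩
  · obtain ⟨g, hg, -⟩ := D.ttP p q q p h (Ne.symm h)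
    exact ⟨g, hg⟩

theorem trB (c d : B) : ∃ g : G, g • c = d := by
  by_cases h : c = d
  · exact ⟨1, by rw [one_smul, h]⟩
  · obtain ⟨g, hg, -⟩ := D.ttB c d d c h (Ne.symm h)
    exact ⟨g, hg⟩

/-- The dual design. -/
def dual : Des G B P where
  I c p := D.I p c
  k := D.k
  lam := D.lam
  inv g c p := D.inv g p c
  card_pts := D.card_blks
  card_blks := D.card_pts
  lam_blks := D.lam_pts
  lam_pts := D.lam_blks
  card_eq := D.card_eq.symm
  nonempty_pts := D.nonempty_blks
  lam_pos := D.lam_pos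
  lam_lt := D.lam_lt
  faithful := D.faithful_blks
  faithful_blks := D.faithful
  ttP := D.ttB
  ttB := D.ttP
  trIn x c d hc hd := by
    obtain ⟨g₀, hg₀⟩ := D.trB c d
    have h1 : D.I (g₀ • x) d := hg₀ ▸ (D.inv g₀ x c).2 hc
    obtain ⟨g₁, hg₁, hg₁'⟩ := D.trIn d (g₀ • x) x h1 hd
    exact ⟨g₁ * g₀, by rw [mul_smul, hg₁'], by rw [mul_smul, hg₀, hg₁]⟩
  trOut x c d hc hd := by
    obtain ⟨g₀, hg₀⟩ := D.trB c d
    have h1 : ¬ D.I (g₀ • x) d := hg₀ ▸ fun h => hc ((D.inv g₀ x c).1 h)
    obtain ⟨g₁, hg₁, hg₁'⟩ := D.trOut d (g₀ • x) x h1 hd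
    exact ⟨g₁ * g₀, by rw [mul_smul, hg₁'], by rw [mul_smul, hg₀, hg₁]⟩

@[simp] theorem dual_I (c : B) (p : P) : D.dual.I c p ↔ D.I p c := Iff.rfl

/-- An automorphism fixes as many blocks as points. -/
theorem fix_eq (g : G) : {p : P | g • p = p}.ncard = {c : B | g • c = c}.ncard := by
  classical
  have hP : ∀ p : P, ∑ c : B, (if D.I p c ∧ D.I (g • p) c then (1 : ℤ) else 0) =
      (D.lam : ℤ) + ((D.k : ℤ) - D.lam) * (if g • p = p then 1 else 0) := by
    intro p
    rw [← ncard_eq_sum_ite]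
    by_cases h : g • p = p
    · simp [h, D.card_blks p]
    · simp [h, D.lam_blks p (g • p) (Ne.symm h)]
  have hB : ∀ c : B, ∑ p : P, (if D.I p c ∧ D.I (g • p) c then (1 : ℤ) else 0) =
      (D.lam : ℤ) + ((D.k : ℤ) - D.lam) * (if g • c = c then 1 else 0) := by
    intro c
    rw [← ncard_eq_sum_ite]
    have he : {p : P | D.I p c ∧ D.I (g • p) c} = {p : P | D.I p c ∧ D.I p (g⁻¹ • c)} :=
      Set.ext fun p => and_congr_right fun _ => D.inv' g p c
    rw [he]
    by_cases h : g • c = c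
    · have h' : g⁻¹ • c = c := inv_smul_eq_iff.2 h.symm
      simp [h, h', D.card_pts c]
    · have h' : c ≠ g⁻¹ • c := fun e => h (by conv_lhs => rw [e, smul_inv_smul])
      simp [h, D.lam_pts c _ h']
  have e : ∑ p : P, ((D.lam : ℤ) + ((D.k : ℤ) - D.lam) * (if g • p = p then 1 else 0)) =
      ∑ c : B, ((D.lam : ℤ) + ((D.k : ℤ) - D.lam) * (if g • c = c then 1 else 0)) := by
    simp only [← hP, ← hB]
    exact Finset.sum_comm
  simp only [Finset.sum_add_distrib, Finset.sum_const, Finset.card_univ, nsmul_eq_mul,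
    ← Finset.mul_sum, ← ncard_eq_sum_ite] at e
  have hc := D.card_eq
  rw [Nat.card_eq_fintype_card, Nat.card_eq_fintype_card] at hc
  rw [hc] at e
  have hne : ((D.k : ℤ) - D.lam) ≠ 0 := by have := D.lam_lt; omega
  have := mul_left_cancel₀ hne (add_left_cancel e)
  exact_mod_cast this

/-- The points on all blocks through two points. -/
def line (p q : P) : Set P := {r | ∀ c, D.I p c → D.I q c → D.I r c}

/-- Every line meets every block. -/
def Meets : Prop := ∀ p q : P, p ≠ q → ∀ c : B, ∃ x, x ∈ D.line p q ∧ D.I x c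

theorem left_mem_line (p q : P) : p ∈ D.line p q := fun _ h _ => h

theorem right_mem_line (p q : P) : q ∈ D.line p q := fun _ _ h => h

theorem line_comm (p q : P) : D.line p q = D.line q p :=
  Set.ext fun _ => ⟨fun h c h1 h2 => h c h2 h1, fun h c h1 h2 => h c h2 h1⟩

theorem smul_mem_line {g : G} {p q r : P} :
    g • r ∈ D.line (g • p) (g • q) ↔ r ∈ D.line p q := by
  constructor
  · intro h c h1 h2
    exact (D.inv g r c).1 (h (g • c) ((D.inv g p c).2 h1) ((D.inv g q c).2 h2))
  · intro h c h1 h2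
    rw [D.inv'] at h1 h2 ⊢
    exact h _ h1 h2

/-- The blocks through two points of a line are those through the two defining points. -/
theorem blks_of_line {p q x y : P} (hpq : p ≠ q) (hx : x ∈ D.line p q) (hy : y ∈ D.line p q)
    (hxy : x ≠ y) (c : B) : D.I x c ∧ D.I y c ↔ D.I p c ∧ D.I q c := by
  have h : {c : B | D.I p c ∧ D.I q c} = {c : B | D.I x c ∧ D.I y c} :=
    Set.eq_of_subset_of_ncard_le (fun c hc => ⟨hx c hc.1 hc.2, hy c hc.1 hc.2⟩)
      (le_of_eq ((D.lam_blks x y hxy).trans (D.lam_blks p q hpq).symm)) (Set.toFinite _)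
  exact ((Set.ext_iff.1 h) c).symm

theorem line_eq {p q x y : P} (hpq : p ≠ q) (hx : x ∈ D.line p q) (hy : y ∈ D.line p q)
    (hxy : x ≠ y) : D.line x y = D.line p q := by
  refine Set.ext fun r => ⟨fun h c h1 h2 => ?_, fun h c h1 h2 => ?_⟩
  · obtain ⟨a, b⟩ := (D.blks_of_line hpq hx hy hxy c).2 ⟨h1, h2⟩
    exact h c a b
  · obtain ⟨a, b⟩ := (D.blks_of_line hpq hx hy hxy c).1 ⟨h1, h2⟩
    exact h c a b

theorem line_in_blk {p q x y : P} {c : B} (hpq : p ≠ q) (hx : x ∈ D.line p q)
    (hy : y ∈ D.line p q) (hxy : x ≠ y) (hxc : D.I x c) (hyc : D.I y c) :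
    ∀ r ∈ D.line p q, D.I r c := fun r hr => by
  rw [← D.line_eq hpq hx hy hxy] at hr
  exact hr c hxc hyc

theorem meet_unique {p q x y : P} {c : B} (hpq : p ≠ q) (hx : x ∈ D.line p q)
    (hy : y ∈ D.line p q) (hxc : D.I x c) (hyc : D.I y c) (hp : ¬ D.I p c) : x = y := by
  by_contra h
  exact hp (D.line_in_blk hpq hx hy h hxc hyc p (D.left_mem_line p q))

theorem line_inter {p q p' q' x y : P} (hpq : p ≠ q) (hpq' : p' ≠ q') (hx : x ∈ D.line p q)
    (hy : y ∈ D.line p q) (hx' : x ∈ D.line p' q') (hy' : y ∈ D.line p' q')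
    (hne : D.line p q ≠ D.line p' q') : x = y := by
  by_contra h
  exact hne ((D.line_eq hpq hx hy h).symm.trans (D.line_eq hpq' hx' hy' h))

open Classical in
/-- A common line size. -/
noncomputable def lineSize : ℕ :=
  if h : ∃ pq : P × P, pq.1 ≠ pq.2 then (D.line h.choose.1 h.choose.2).ncard else 0

theorem ncard_line {p q : P} (hpq : p ≠ q) : (D.line p q).ncard = D.lineSize := by
  have h : ∃ pq : P × P, pq.1 ≠ pq.2 := ⟨(p, q), hpq⟩
  rw [lineSize, dif_pos h]
  obtain ⟨g, hg1, hg2⟩ := D.ttP _ _ p q h.choose_spec hpq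
  have : D.line p q = (g • ·) '' D.line h.choose.1 h.choose.2 := by
    ext r
    constructor
    · intro hr
      refine ⟨g⁻¹ • r, ?_, smul_inv_smul g r⟩
      rw [← D.smul_mem_line (g := g), smul_inv_smul, hg1, hg2]
      exact hr
    · rintro ⟨s, hs, rfl⟩
      have := (D.smul_mem_line (g := g)).2 hs
      rwa [hg1, hg2] at this
  rw [this, Set.ncard_image_of_injective _ (MulAction.injective g)]

theorem exists_ne_pts : ∃ p q : P, p ≠ q := by
  obtain ⟨c⟩ := D.nonempty_blks
  obtain ⟨p, hp⟩ := D.exists_mem c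
  obtain ⟨q, hq⟩ := D.exists_not_mem c
  exact ⟨p, q, fun h => hq (h ▸ hp)⟩

theorem two_le_lineSize : 2 ≤ D.lineSize := by
  obtain ⟨p, q, h⟩ := D.exists_ne_pts
  rw [← D.ncard_line h, ← Set.ncard_pair h]
  refine Set.ncard_le_ncard ?_ (Set.toFinite _)
  rintro r (rfl | rfl)
  exacts [D.left_mem_line _ _, D.right_mem_line _ _]

/-- The blocks meeting a line, counted. -/
theorem card_meeting {p q : P} (hpq : p ≠ q) :
    {c : B | ∃ x ∈ D.line p q, D.I x c}.ncard = D.lineSize * (D.k - D.lam) + D.lam := by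
  classical
  set L := D.line p q with hL
  set A : Set B := {c | D.I p c ∧ D.I q c} with hA
  let S : P → Finset B := fun x => Finset.univ.filter fun c => D.I x c ∧ ¬ c ∈ A
  have hS : ∀ x ∈ L, (S x).card = D.k - D.lam := by
    intro x hx
    have e : ((S x : Finset B) : Set B) = {c | D.I x c} \ A := by
      ext c; simp [S]
    have hsub : A ⊆ {c | D.I x c} := fun c hc => hx c hc.1 hc.2
    rw [← Set.ncard_coe_finset, e, Set.ncard_diff hsub (Set.toFinite _), D.card_blks,
      D.lam_blks p q hpq]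
  have hd : ((L.toFinset : Finset P) : Set P).PairwiseDisjoint S := by
    intro x hx y hy hne
    simp only [Set.coe_toFinset] at hx hy
    rw [Function.onFun, Finset.disjoint_left]
    intro c h1 h2
    simp only [S, Finset.mem_filter] at h1 h2
    exact h1.2.2 ((D.blks_of_line hpq hx hy hne c).1 ⟨h1.2.1, h2.2.1⟩)
  have hset : {c : B | ∃ x ∈ L, D.I x c} =
      A ∪ ((L.toFinset.biUnion S : Finset B) : Set B) := by
    ext c
    constructor
    · rintro ⟨x, hx, hxc⟩
      by_cases hc : c ∈ A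
      · exact Or.inl hc
      · refine Or.inr ?_
        simp only [Finset.coe_biUnion, Set.coe_toFinset, Set.mem_iUnion]
        exact ⟨x, hx, by simp [S, hxc, hc]⟩
    · rintro (hc | hc)
      · exact ⟨p, D.left_mem_line p q, hc.1⟩
      · simp only [Finset.coe_biUnion, Set.coe_toFinset, Set.mem_iUnion] at hc
        obtain ⟨x, hx, hxc⟩ := hc
        exact ⟨x, hx, by simpa [S] using (Finset.mem_coe.1 hxc |> fun h =>
          (Finset.mem_filter.1 h).2.1)⟩
  have hdisj : Disjoint A ((L.toFinset.biUnion S : Finset B) : Set B) := by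
    rw [Set.disjoint_left]
    intro c hc hc'
    simp only [Finset.coe_biUnion, Set.coe_toFinset, Set.mem_iUnion] at hc'
    obtain ⟨x, hx, hxc⟩ := hc'
    exact (Finset.mem_filter.1 (Finset.mem_coe.1 hxc)).2.2 hc
  rw [hset, Set.ncard_union_eq hdisj (Set.toFinite _) (Set.toFinite _), Set.ncard_coe_finset,
    Finset.card_biUnion hd, Finset.sum_congr rfl (fun x hx => hS x (Set.mem_toFinset.1 hx)),
    Finset.sum_const, ← Set.ncard_eq_toFinset_card', D.ncard_line hpq, D.lam_blks p q hpq,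
    smul_eq_mul, add_comm]

theorem lineSize_bound : D.lineSize * (D.k - D.lam) + D.lam ≤ Nat.card P := by
  obtain ⟨p, q, h⟩ := D.exists_ne_pts
  rw [← D.card_meeting h, D.card_eq, ← Set.ncard_univ]
  exact Set.ncard_le_ncard (Set.subset_univ _) (Set.toFinite _)

theorem meets_iff : D.Meets ↔ D.lineSize * (D.k - D.lam) + D.lam = Nat.card P := by
  rw [D.card_eq]
  constructor
  · intro h
    obtain ⟨p, q, hpq⟩ := D.exists_ne_pts
    rw [← D.card_meeting hpq, ← Set.ncard_univ]
    exact congrArg _ (Set.eq_univ_of_forall fun c => h p q hpq c)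
  · intro h p q hpq c
    have hu : {c : B | ∃ x ∈ D.line p q, D.I x c} = Set.univ :=
      Set.eq_of_subset_of_ncard_le (Set.subset_univ _)
        (by rw [D.card_meeting hpq, h, Set.ncard_univ]) (Set.toFinite _)
    exact (Set.eq_univ_iff_forall.1 hu) c

/-- Arithmetic form of the line size condition. -/
theorem meets_iff' : D.Meets ↔ D.k - 1 = D.lam * (D.lineSize - 1) := by
  rw [D.meets_iff]
  have hk := D.lam_lt
  have hh := D.two_le_lineSize
  have hl := D.lam_pos
  obtain ⟨j, hj⟩ : ∃ j, D.lineSize = j + 1 := ⟨D.lineSize - 1, by omega⟩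
  have hp := D.param
  have e1 : (((D.k - D.lam : ℕ)) : ℤ) = (D.k : ℤ) - D.lam := by
    rw [Nat.cast_sub (by omega)]
  have hlam : (D.lam : ℤ) ≠ 0 := by omega
  have hkl : (D.k : ℤ) - D.lam ≠ 0 := by omega
  rw [hj, Nat.add_sub_cancel]
  constructor
  · intro h
    have h' : (D.lam : ℤ) * (((j + 1) * (D.k - D.lam) + D.lam : ℕ) : ℤ) =
        (D.lam : ℤ) * (Nat.card P : ℤ) := by rw [h]
    push_cast [e1] at h'
    have h'' : ((D.k : ℤ) - D.lam) * ((D.lam : ℤ) * j) =
        ((D.k : ℤ) - D.lam) * ((D.k : ℤ) - 1) := by linear_combination h' + hp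
    have h3 := mul_left_cancel₀ hkl h''
    have : ((D.k - 1 : ℕ) : ℤ) = ((D.lam * j : ℕ) : ℤ) := by
      rw [Nat.cast_sub (by omega)]; push_cast; linarith
    exact_mod_cast this
  · intro h
    have h' : (D.k : ℤ) - 1 = (D.lam : ℤ) * j := by
      have := congrArg (fun n : ℕ => (n : ℤ)) h
      rw [Nat.cast_sub (by omega)] at this
      exact_mod_cast this
    have h'' : (D.lam : ℤ) * (((j + 1) * (D.k - D.lam) + D.lam : ℕ) : ℤ) =
        (D.lam : ℤ) * (Nat.card P : ℤ) := by
      push_cast [e1]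
      linear_combination -hp - ((D.k : ℤ) - D.lam) * h'
    exact_mod_cast mul_left_cancel₀ hlam h''

theorem lam_mul_lineSize_le : D.lam * (D.lineSize - 1) ≤ D.k - 1 := by
  have hb := D.lineSize_bound
  have hk := D.lam_lt
  have hh := D.two_le_lineSize
  obtain ⟨j, hj⟩ : ∃ j, D.lineSize = j + 1 := ⟨D.lineSize - 1, by omega⟩
  rw [hj] at hb hh ⊢
  rw [Nat.add_sub_cancel]
  have hb' : (((j + 1) * (D.k - D.lam) + D.lam : ℕ) : ℤ) ≤ (Nat.card P : ℤ) := by exact_mod_cast hb
  push_cast [Nat.cast_sub (show D.lam ≤ D.k by omega)] at hb'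
  have hp := D.param
  have hlam : (0 : ℤ) < D.lam := by have := D.lam_pos; omega
  have hkl : (0 : ℤ) < (D.k : ℤ) - D.lam := by omega
  have : ((D.k : ℤ) - D.lam) * ((D.lam : ℤ) * j) ≤ ((D.k : ℤ) - D.lam) * ((D.k : ℤ) - 1) := by
    have := mul_le_mul_of_nonneg_left hb' hlam.le
    linarith [this, hp]
  have h3 := le_of_mul_le_mul_left this hkl
  have : ((D.lam * j : ℕ) : ℤ) ≤ ((D.k - 1 : ℕ) : ℤ) := by
    rw [Nat.cast_sub (by omega)]; push_cast; linarith
  exact_mod_cast this

end Des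

end Cfsg.Agent.CG26.Ito
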