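import Cfsg.Agent.CG26.Ito.Coord
import Cfsg.Agent.Lib.LinearGroup.Generation

/-!
# The translations generate the projective special linear group
-/

set_option autoImplicit false
set_option linter.unusedSectionVars false

namespace Cfsg.Agent.CG26.Ito

open scoped LinearAlgebra.Projectivization

variable {G P B : Type*} [Group G] [MulAction G P] [MulAction G B] [Fintype P] [Fintype B]
  [Finite G] (D : Des G P B)

namespace Des

/-- A permutation behaving like a translation with axis `c` and centre `x`. -/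
structure IsTr (h : Equiv.Perm P) (c : B) (x : P) : Prop where
  auto : ∀ c', ∃ d, ∀ p, D.I p d ↔ D.I (h p) c'
  fix : ∀ p, D.I p c → h p = p
  centre : ∀ b, D.I x b → ∀ q, D.I q b → D.I (h q) b

variable {D}

theorem IsTr.mem_line {h : Equiv.Perm P} {c : B} {x : P} (ht : D.IsTr h c x) (q : P) :
    h q ∈ D.line x q := fun b hxb hqb => ht.centre b hxb q hqb

theorem IsTr.map_line {h : Equiv.Perm P} {c : B} {x : P} (ht : D.IsTr h c x) {a b r : P}
    (hr : r ∈ D.line a b) : h r ∈ D.line (h a) (h b) := by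
  intro c' ha hb
  obtain ⟨d, hd⟩ := ht.auto c'
  exact (hd r).1 (hr d ((hd a).2 ha) ((hd b).2 hb))

theorem IsTr.off {h : Equiv.Perm P} {c : B} {x : P} (ht : D.IsTr h c x) {p : P}
    (hp : ¬ D.I p c) : ¬ D.I (h p) c := fun h' => hp (h.injective (ht.fix _ h') ▸ h')

/-- Such permutations are determined by the image of one point off the axis. -/
theorem IsTr.unique (hA : D.HasAxial) {h h' : Equiv.Perm P} {c : B} {x : P} (hx : D.I x c)
    (ht : D.IsTr h c x) (ht' : D.IsTr h' c x) {p : P} (hp : ¬ D.I p c) (he : h p = h' p) :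
    h = h' := by
  have step : ∀ p q, ¬ D.I p c → ¬ D.I q c → h p = h' p → q ∉ D.line x p → h q = h' q := by
    intro p q hp hq he hqL
    have hxp : x ≠ p := fun e => hp (e ▸ hx)
    have hpq : p ≠ q := fun e => hqL (e ▸ D.right_mem_line x p)
    obtain ⟨y, hy, hyc⟩ := D.meets hA p q hpq c
    have hyp : y ≠ p := fun e => hp (e ▸ hyc)
    have hq' : q ∈ D.line p y := by
      rw [D.line_eq hpq (D.left_mem_line p q) hy hyp.symm]
      exact D.right_mem_line p q
    have hhy : ∀ k : Equiv.Perm P, D.IsTr k c x → k q ∈ D.line (k p) y := fun k hk => by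
      have := hk.map_line hq'
      rwa [hk.fix y hyc] at this
    have h1 := hhy h ht
    have h2 := hhy h' ht'
    rw [← he] at h2
    have hxy : x ≠ y := by
      intro e
      subst e
      rw [D.line_comm] at hq'
      exact hqL hq'
    refine D.line_inter (p := h p) (q := y) (p' := x) (q' := q) ?_ (fun e => hq (e ▸ hx)) h1 h2
      (ht.mem_line q) (ht'.mem_line q) fun e => ?_
    · exact fun e => ht.off hp (e ▸ hyc)
    · have hxmem : x ∈ D.line (h p) y := e ▸ D.left_mem_line x q
      exact ht.off hp (D.line_in_blk (fun e : h p = y => ht.off hp (e.symm ▸ hyc)) hxmem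
        (D.right_mem_line _ _) hxy hx hyc _ (D.left_mem_line _ _))
  refine Equiv.ext fun q => ?_
  by_cases hq : D.I q c
  · rw [ht.fix q hq, ht'.fix q hq]
  by_cases hqL : q ∈ D.line x p
  swap
  · exact step p q hp hq he hqL
  -- a base point off the line
  obtain ⟨r, hrc, hrL⟩ : ∃ r, ¬ D.I r c ∧ r ∉ D.line x p := by
    by_contra hc
    push_neg at hc
    have hxp : x ≠ p := fun e => hp (e ▸ hx)
    have hsub : {r | ¬ D.I r c} ⊆ D.line x p \ {x} := fun r hr =>
      ⟨hc r hr, fun e => hr ((Set.mem_singleton_iff.1 e) ▸ hx)⟩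
    have h := Set.ncard_le_ncard hsub (Set.toFinite _)
    rw [← D.card_T hA c, D.card_T' hA, Set.ncard_sdiff_singleton_of_mem (D.left_mem_line x p),
      D.ncard_line hxp] at h
    have := D.two_le_order hA
    have h3 : 2 * (D.lineSize - 1 - 1) ≤ D.k * (D.lineSize - 1 - 1) :=
      Nat.mul_le_mul_right _ (by have := D.lam_lt; omega)
    omega
  refine step r q hrc hq (step p r hp hrc he hrL) fun hqr => hrL ?_
  have hxq : x ≠ q := fun e => hq (e ▸ hx)
  have hxp : x ≠ p := fun e => hp (e ▸ hx)
  have hxr : x ≠ r := fun e => hrc (e ▸ hx)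
  have e1 := D.line_eq hxr (D.left_mem_line x r) hqr hxq
  have e2 := D.line_eq hxp (D.left_mem_line x p) hqL hxq
  rw [← e2, e1]
  exact D.right_mem_line x r

theorem isTr_of_Z {g : G} {c : B} {x : P} (hg : g ∈ D.Z c x) :
    D.IsTr (MulAction.toPerm g) c x where
  auto c' := ⟨g⁻¹ • c', fun p => by rw [MulAction.toPerm_apply, D.inv']⟩
  fix := hg.1
  centre b hxb q hqb := by
    have := (D.inv g q b).2 hqb
    rwa [hg.2 b hxb] at this

variable {F : Type} [Field F] [Fintype F] {n : ℕ} (e : P ≃ ℙ F (Fin n → F))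

/-- The permutation of the points induced by an element of `PSL`. -/
noncomputable def rho : Matrix.ProjectiveSpecialLinearGroup (Fin n) F →* Equiv.Perm P :=
  (e.symm.permCongrHom.toMonoidHom).comp Projectivization.PSLAction.toPermHom

theorem rho_apply (A : Matrix.SpecialLinearGroup (Fin n) F) (p : P) :
    rho e (QuotientGroup.mk A) p = e.symm (A • e p) := rfl

theorem rho_injective : Function.Injective (rho e) :=
  e.symm.permCongrHom.injective.comp Matrix.ProjectiveSpecialLinearGroup.toPermHom_injective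

/-- The transvection `v ↦ v + f v • a` as an element of `SL`. -/
noncomputable def tvs {f : (Fin n → F) →ₗ[F] F} {a : Fin n → F} (h : f a = 0) :
    Matrix.SpecialLinearGroup (Fin n) F :=
  Matrix.SpecialLinearGroup.toLin'_equiv.symm
    ⟨LinearEquiv.transvection h, LinearEquiv.transvection.det_eq_one h⟩

theorem tvs_smul_mk {f : (Fin n → F) →ₗ[F] F} {a : Fin n → F} (h : f a = 0) {v : Fin n → F}
    (hv : v ≠ 0) (hv' : v + f v • a ≠ 0) :
    tvs h • Projectivization.mk F v hv = Projectivization.mk F (v + f v • a) hv' := by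
  rw [Projectivization.matrixSpecialLinearGroup_smul_def, tvs, MulEquiv.apply_symm_apply,
    Projectivization.specialLinearGroup_smul_def, Projectivization.smul_mk]
  congr 1

theorem tvs_ne {f : (Fin n → F) →ₗ[F] F} {a : Fin n → F} (h : f a = 0) {v : Fin n → F}
    (hv : v ≠ 0) : v + f v • a ≠ 0 := fun e => hv (by
  have := congrArg f e
  rw [map_add, map_smul, h, smul_eq_mul, mul_zero, add_zero, map_zero] at this
  rwa [this, zero_smul, add_zero] at e)

variable (hcoord : IsCoord D e)

include hcoord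

theorem isTr_tvs {f : (Fin n → F) →ₗ[F] F} {a : Fin n → F} (h : f a = 0) {c : B}
    (hfc : ∀ p, D.I p c ↔ f (e p).rep = 0) {x : P}
    (hax : ∀ φ : (Fin n → F) →ₗ[F] F, φ (e x).rep = 0 → φ a = 0) :
    D.IsTr (rho e (QuotientGroup.mk (tvs h))) c x := by
  have himg : ∀ p, e (rho e (QuotientGroup.mk (tvs h)) p) =
      Projectivization.mk F ((e p).rep + f (e p).rep • a)
        (tvs_ne h (Projectivization.rep_nonzero _)) := by
    intro p
    rw [rho_apply, Equiv.apply_symm_apply]
    conv_lhs => rw [← Projectivization.mk_rep (e p)]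
    rw [tvs_smul_mk]
  refine ⟨fun c' => ?_, fun p hp => e.injective ?_, fun b hxb q hqb => ?_⟩
  · obtain ⟨φ, hφ, hφc⟩ := hcoord.1 c'
    obtain ⟨d, hd⟩ := hcoord.2 (φ + φ a • f) (fun e0 => hφ (LinearMap.ext fun v => by
      have h1 := LinearMap.congr_fun e0 v
      have h2 := LinearMap.congr_fun e0 a
      simp [h] at h1 h2
      simpa [h2] using h1))
    refine ⟨d, fun p => ?_⟩
    rw [hd, hφc, himg, rep_zero_iff, map_add, map_smul, smul_eq_mul, LinearMap.add_apply,
      LinearMap.smul_apply, smul_eq_mul, mul_comm]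
  · rw [himg]
    simp only [(hfc p).1 hp, zero_smul, add_zero]
    exact Projectivization.mk_rep _
  · obtain ⟨φ, -, hφb⟩ := hcoord.1 b
    rw [hφb, himg, rep_zero_iff, map_add, map_smul, hax φ ((hφb x).1 hxb), (hφb q).1 hqb,
      smul_zero, add_zero]

/-- Translations are transvections. -/
theorem exists_tvs_of_Z (hA : D.HasAxial) {g : G} {c : B} {x : P} (hx : D.I x c)
    (hg : g ∈ D.Z c x) : (MulAction.toPerm g : Equiv.Perm P) ∈ (rho e).range := by
  obtain ⟨f, hf, hfc⟩ := hcoord.1 c
  obtain ⟨p, hp⟩ := D.exists_not_mem c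
  have hr : ¬ D.I (g • p) c := D.ax_off hg.1 hp
  have hmem : g • p ∈ D.line x p := (isTr_of_Z hg).mem_line p
  set u := (e p).rep
  set w := (e x).rep
  set r := (e (g • p)).rep with hr'
  have hspan : r ∈ Submodule.span F {w, u} := by
    by_contra hn
    obtain ⟨φ, hφr, hφ⟩ := Submodule.exists_dual_map_eq_bot_of_notMem hn inferInstance
    have hz : ∀ v ∈ ({w, u} : Set (Fin n → F)), φ v = 0 := by
      intro v hv
      have : φ v ∈ (Submodule.span F {w, u}).map φ :=
        Submodule.mem_map_of_mem (Submodule.subset_span hv)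
      rwa [hφ, Submodule.mem_bot] at this
    obtain ⟨b, hb⟩ := hcoord.2 φ (fun e0 => hφr (by rw [e0]; rfl))
    exact hφr ((hb _).1 (hmem b ((hb x).2 (hz w (Set.mem_insert _ _)))
      ((hb p).2 (hz u (Set.mem_insert_of_mem _ rfl)))))
  obtain ⟨β, α, hαβ⟩ := Submodule.mem_span_pair.1 hspan
  have hfw : f w = 0 := (hfc x).1 hx
  have hfu : f u ≠ 0 := fun h => hp ((hfc p).2 h)
  have hα : α ≠ 0 := by
    intro h0
    apply hr
    rw [hfc, ← hr', ← hαβ, h0, zero_smul, add_zero, map_smul, hfw, smul_zero]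
  set a := (β / (α * f u)) • w with ha
  have hfa : f a = 0 := by rw [ha, map_smul, hfw, smul_zero]
  refine ⟨QuotientGroup.mk (tvs hfa), IsTr.unique hA hx
    (isTr_tvs e hcoord hfa hfc fun φ hφ => ?_) (isTr_of_Z hg) hp (e.injective ?_)⟩
  · rw [ha, map_smul, hφ, smul_zero]
  · rw [rho_apply, Equiv.apply_symm_apply, MulAction.toPerm_apply]
    conv_lhs => rw [← Projectivization.mk_rep (e p)]
    conv_rhs => rw [← Projectivization.mk_rep (e (g • p))]
    rw [tvs_smul_mk hfa _ (tvs_ne hfa (Projectivization.rep_nonzero _)),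
      Projectivization.mk_eq_mk_iff']
    refine ⟨α⁻¹, ?_⟩
    show α⁻¹ • r = u + f u • a
    rw [← hαβ, ha, smul_add, smul_smul, smul_smul, smul_smul, inv_mul_cancel₀ hα, one_smul,
      add_comm]
    congr 2
    field_simp

/-- Transvections are translations. -/
theorem tvs_mem_T (hA : D.HasAxial) {f : (Fin n → F) →ₗ[F] F} {a : Fin n → F} (hf : f ≠ 0)
    (ha : a ≠ 0) (h : f a = 0) :
    ∃ c, ∃ g ∈ D.T hA c, (MulAction.toPerm g : Equiv.Perm P) = rho e (QuotientGroup.mk (tvs h)) := by
  obtain ⟨c, hc⟩ := hcoord.2 f hf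
  set x := e.symm (Projectivization.mk F a ha) with hxdef
  have hax : ∀ φ : (Fin n → F) →ₗ[F] F, φ (e x).rep = 0 → φ a = 0 := fun φ hφ => by
    rwa [hxdef, Equiv.apply_symm_apply, rep_zero_iff] at hφ
  have hx : D.I x c := by rw [hc, hxdef, Equiv.apply_symm_apply, rep_zero_iff, h]
  have ht := isTr_tvs e hcoord h hc hax
  obtain ⟨p, hp⟩ := D.exists_not_mem c
  obtain ⟨g, hg, hgp⟩ := D.exists_Z_map hA hx hp (ht.mem_line p)
    (fun e' => ht.off hp (e' ▸ hx))
  exact ⟨c, g, Z_le_T hA hx hg, IsTr.unique hA hx (isTr_of_Z hg) ht hp hgp⟩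

theorem exists_psl (hA : D.HasAxial) :
    ∃ N : Subgroup G, N.Normal ∧
      Nonempty (N ≃* Matrix.ProjectiveSpecialLinearGroup (Fin n) F) ∧
      Subgroup.centralizer (N : Set G) = ⊥ := by
  classical
  let σ : G →* Equiv.Perm P := MulAction.toPermHom G P
  have hσ : Function.Injective σ := (injective_iff_map_eq_one σ).2 fun g hg =>
    D.faithful g fun p => Equiv.ext_iff.1 hg p
  let S : Set G := {g | ∃ c, g ∈ D.T hA c}
  have hconj : ∀ (a g : G), g ∈ S → a * g * a⁻¹ ∈ S := by
    rintro a g ⟨c, hg⟩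
    obtain ⟨x, hx, hgx⟩ := T_centre hA hg
    exact ⟨a • c, Z_le_T hA ((D.inv a x c).2 hx) (D.conj_Z hgx a)⟩
  refine ⟨Subgroup.closure S, ?_, ?_, ?_⟩
  · refine ⟨fun g hg a => ?_⟩
    have h1 : (Subgroup.closure S).map (MulAut.conj a).toMonoidHom ≤ Subgroup.closure S := by
      rw [MonoidHom.map_closure, Subgroup.closure_le]
      rintro _ ⟨s, hs, rfl⟩
      exact Subgroup.subset_closure (hconj a s hs)
    exact h1 ⟨g, hg, rfl⟩
  · have hle : (Subgroup.closure S).map σ ≤ (rho e).range := by
      rw [MonoidHom.map_closure, Subgroup.closure_le]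
      rintro _ ⟨g, ⟨c, hg⟩, rfl⟩
      obtain ⟨x, hx, hgx⟩ := T_centre hA hg
      exact exists_tvs_of_Z e hcoord hA hx hgx
    have hge : (rho e).range ≤ (Subgroup.closure S).map σ := by
      let mkh := QuotientGroup.mk' (Subgroup.center (Matrix.SpecialLinearGroup (Fin n) F))
      have htop : (((Subgroup.closure S).map σ).comap (rho e)).comap mkh = ⊤ := by
        refine Cfsg.Agent.LinearGroup.eq_top_of_transvection_mem fun i j hij b => ?_
        rw [Subgroup.mem_comap, Subgroup.mem_comap, QuotientGroup.mk'_apply]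
        by_cases hb : b = 0
        · subst hb
          rw [Matrix.SpecialLinearGroup.transvection_coeff_zero, QuotientGroup.mk_one, map_one]
          exact one_mem _
        let f : (Fin n → F) →ₗ[F] F := b • LinearMap.proj j
        have hfa : f (Pi.single i 1) = 0 := by simp [f, hij.symm]
        have hf : f ≠ 0 := fun h0 => hb (by
          simpa [f] using LinearMap.congr_fun h0 (Pi.single j 1))
        obtain ⟨c, g, hg, hgeq⟩ := tvs_mem_T e hcoord hA hf
          (Pi.single_ne_zero_iff.2 one_ne_zero) hfa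
        have heq : tvs hfa = Matrix.SpecialLinearGroup.transvection hij b := by
          rw [tvs, MulEquiv.symm_apply_eq]
          refine Subtype.ext (LinearEquiv.ext fun v => ?_)
          show v + f v • Pi.single i 1 =
            (Matrix.SpecialLinearGroup.transvection hij b).1.mulVec v
          rw [Matrix.SpecialLinearGroup.transvection_coe, Matrix.add_mulVec, Matrix.one_mulVec,
            Matrix.single_mulVec_eq]
          simp [f, mul_comm]
        rw [← heq, ← hgeq]
        exact ⟨g, Subgroup.subset_closure ⟨c, hg⟩, rfl⟩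
      rintro _ ⟨A, rfl⟩
      obtain ⟨M, rfl⟩ := QuotientGroup.mk_surjective A
      exact (Subgroup.eq_top_iff' _).1 htop M
    exact ⟨((Subgroup.closure S).equivMapOfInjective σ hσ).trans
      ((MulEquiv.subgroupCongr (le_antisymm hle hge)).trans
        (MonoidHom.ofInjective (rho_injective e)).symm)⟩
  · rw [Subgroup.eq_bot_iff_forall]
    intro z hz
    refine D.faithful_blks z fun c => D.blk_eq fun p hp => ?_
    obtain ⟨g, hg1, hgc, hs⟩ := D.exists_elation hA c
    obtain ⟨x, hx, hgx⟩ := D.exists_centre hA hgc hs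
    have hcomm : g * z = z * g := Subgroup.mem_centralizer_iff.1 hz g
      (Subgroup.subset_closure ⟨c, Z_le_T hA hx ⟨hgc, hgx⟩⟩)
    -- the fixed points of `g` are permuted
    rw [D.inv''] at hp
    have h1 : g • z⁻¹ • p = z⁻¹ • p := hgc _ hp
    have h2 : g • p = p := by
      have h3 : z • (g • z⁻¹ • p) = p := by rw [h1, smul_inv_smul]
      rwa [← mul_smul, ← mul_smul, ← hcomm, mul_inv_cancel_right] at h3
    by_contra hn
    exact hs p hn h2

end Des

end Cfsg.Agent.CG26.Ito
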