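import Cfsg.Agent.CG26.Ito.Plane
import Cfsg.Agent.CG26.Ito.Recognise
import Cfsg.Agent.S3704

/-!
# Doubly transitive groups with an intransitive subgroup of index the degree
-/

set_option autoImplicit false
set_option linter.unusedSectionVars false

namespace Cfsg.Agent.CG26.Ito

open MulAction

variable {G Ω : Type*} [Group G] [Finite G] [MulAction G Ω] [FaithfulSMul G Ω]

theorem exists_des [Fintype Ω] (H : Subgroup G) [Fintype (G ⧸ H)]
    (h2 : IsMultiplyPretransitive G Ω 2) (hidx : H.index = Nat.card Ω) (hnt : ¬ IsPretransitive H Ω)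
    (hfix : ∀ a : Ω, ∃ h : H, h • a ≠ a)
    (hunf : ∃ a : Ω, ∃ h : H, h ≠ 1 ∧ ∀ b ∈ orbit H a, h • b = b) :
    ∃ D : Des G Ω (G ⧸ H), D.HasAxial := by
  classical
  obtain ⟨a, h₀, hh₀, hh₀fix⟩ := hunf
  set O : Set Ω := orbit H a
  have hQ := Cfsg.Agent.S3704.result h2 H hidx hnt hfix
  have hv : Nat.card (G ⧸ H) = Nat.card Ω := hidx
  have h2' : ∀ {a b c d : Ω}, a ≠ b → c ≠ d → ∃ g : G, g • a = c ∧ g • b = d :=
    is_two_pretransitive_iff.1 h2
  -- the complement is one orbit
  have hout : ∀ x y : Ω, x ∉ O → y ∉ O → y ∈ orbit H x := by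
    intro x y hx hy
    by_contra hn
    have := Fintype.ofFinite (orbitRel.Quotient H Ω)
    have h3 : ({Quotient.mk (orbitRel H Ω) a, Quotient.mk (orbitRel H Ω) x,
        Quotient.mk (orbitRel H Ω) y} : Finset (orbitRel.Quotient H Ω)).card = 3 := by
      rw [Finset.card_eq_three]
      refine ⟨_, _, _, ?_, ?_, ?_, rfl⟩
      · exact fun e => hx (mem_orbit_symm.1 (Quotient.exact e))
      · exact fun e => hy (mem_orbit_symm.1 (Quotient.exact e))
      · exact fun e => hn (mem_orbit_symm.1 (Quotient.exact e))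
    have h4 := Finset.card_le_univ ({Quotient.mk (orbitRel H Ω) a, Quotient.mk (orbitRel H Ω) x,
      Quotient.mk (orbitRel H Ω) y} : Finset (orbitRel.Quotient H Ω))
    rw [h3, ← Nat.card_eq_fintype_card, hQ] at h4
    omega
  obtain ⟨a', ha'⟩ : ∃ a', a' ∉ O := by
    by_contra hc
    push_neg at hc
    refine hnt ⟨fun x y => ?_⟩
    obtain ⟨g, hg⟩ := hc x
    obtain ⟨g', hg'⟩ := hc y
    exact ⟨g' * g⁻¹, by rw [← hg, ← hg', mul_smul, inv_smul_smul]⟩
  let I : Ω → G ⧸ H → Prop := fun w c => c.out⁻¹ • w ∈ O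
  have hI : ∀ (g : G) (w : Ω), I w (g : G ⧸ H) ↔ g⁻¹ • w ∈ O := by
    intro g w
    obtain ⟨h, hh⟩ := QuotientGroup.mk_out_eq_mul H g
    show (QuotientGroup.mk g : G ⧸ H).out⁻¹ • w ∈ O ↔ _
    rw [hh, mul_inv_rev, mul_smul]
    rw [show ((h : G)⁻¹) • g⁻¹ • w = (h⁻¹ : H) • (g⁻¹ • w) from rfl, ← orbit_eq_iff,
      orbit_smul, orbit_eq_iff]
  have hinv : ∀ (g : G) (w : Ω) (c : G ⧸ H), I (g • w) (g • c) ↔ I w c := by
    intro g w c
    induction c using QuotientGroup.induction_on with
    | H x =>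
      rw [Quotient.smul_coe, hI, hI, smul_eq_mul, mul_inv_rev, mul_smul, inv_smul_smul]
  set k := O.ncard with hk
  have hcol : ∀ c : G ⧸ H, {w | I w c}.ncard = k := by
    intro c
    induction c using QuotientGroup.induction_on with
    | H x =>
      have e : {w | I w (x : G ⧸ H)} = (x • ·) '' O := by
        ext w
        rw [Set.mem_setOf_eq, hI]
        exact ⟨fun h => ⟨_, h, smul_inv_smul x w⟩, by rintro ⟨u, hu, rfl⟩; rwa [inv_smul_smul]⟩
      rw [e, Set.ncard_image_of_injective _ (MulAction.injective x)]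
  have hk2 : 2 ≤ k := by
    obtain ⟨h, hne⟩ := hfix a
    rw [hk, ← Set.ncard_pair hne]
    refine Set.ncard_le_ncard ?_ (Set.toFinite _)
    rintro w (rfl | rfl)
    exacts [mem_orbit _ _, mem_orbit_self _]
  have hkv : k + 2 ≤ Nat.card Ω := by
    obtain ⟨h, hne⟩ := hfix a'
    have hh : h • a' ∉ O := fun hc => ha' (by
      obtain ⟨u, hu⟩ := hc
      exact ⟨h⁻¹ * u, by
        show (h⁻¹ * u) • a = a'
        rw [mul_smul, show u • a = h • a' from hu, inv_smul_smul]⟩)
    have h1 : ({h • a', a'} : Set Ω) ⊆ Oᶜ := by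
      rintro w (rfl | rfl)
      exacts [hh, ha']
    have h1' := Set.ncard_le_ncard h1 (Set.toFinite _)
    rw [Set.ncard_pair hne] at h1'
    have h2 := Set.ncard_add_ncard_compl O (Set.toFinite _) (Set.toFinite _)
    omega
  have htrP : ∀ x y : Ω, ∃ g : G, g • x = y := by
    intro x y
    by_cases h : x = y
    · exact ⟨1, by rw [one_smul, h]⟩
    · obtain ⟨g, hg, -⟩ := h2' h (Ne.symm h)
      exact ⟨g, hg⟩
  have hrowinv : ∀ (g : G) (x : Ω), {c | I (g • x) c}.ncard = {c | I x c}.ncard := by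
    intro g x
    have e : {c | I (g • x) c} = (g • ·) '' {c | I x c} := by
      ext c
      refine ⟨fun h => ⟨g⁻¹ • c, ?_, smul_inv_smul g c⟩, ?_⟩
      · show I x (g⁻¹ • c)
        rwa [← hinv g, smul_inv_smul]
      · rintro ⟨d, hd, rfl⟩
        exact (hinv g x d).2 hd
    rw [e, Set.ncard_image_of_injective _ (MulAction.injective g)]
  set v := Nat.card Ω with hvdef
  have hcB : (Fintype.card (G ⧸ H) : ℤ) = v := by
    rw [← Nat.card_eq_fintype_card, hv]
  have hcP : (Fintype.card Ω : ℤ) = v := by rw [hvdef, Nat.card_eq_fintype_card]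
  have hrow : ∀ x : Ω, {c | I x c}.ncard = k := by
    intro x
    have hconst : ∀ y, {c | I y c}.ncard = {c | I x c}.ncard := fun y => by
      obtain ⟨g, rfl⟩ := htrP x y
      exact hrowinv g x
    have e1 : ∑ y : Ω, ∑ c : G ⧸ H, (if I y c then (1 : ℤ) else 0) =
        (v : ℤ) * {c | I x c}.ncard := by
      simp only [← ncard_eq_sum_ite, hconst, Finset.sum_const, Finset.card_univ, nsmul_eq_mul, hcP]
    rw [Finset.sum_comm] at e1
    simp only [← ncard_eq_sum_ite, hcol, Finset.sum_const, Finset.card_univ, nsmul_eq_mul,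
      hcB] at e1
    have := mul_left_cancel₀ (show (v : ℤ) ≠ 0 by omega) e1
    exact_mod_cast this.symm
  obtain ⟨p₁, p₂, hp12⟩ : ∃ p₁ p₂ : Ω, p₁ ≠ p₂ :=
    ⟨a, a', fun e => ha' (e ▸ mem_orbit_self a)⟩
  set lam := {c | I p₁ c ∧ I p₂ c}.ncard with hlam
  have hlamc : ∀ x y, x ≠ y → {c | I x c ∧ I y c}.ncard = lam := by
    intro x y hxy
    obtain ⟨g, h1, h2⟩ := h2' hxy hp12
    rw [hlam, ← h1, ← h2]
    have e : {c | I (g • x) c ∧ I (g • y) c} = (g • ·) '' {c | I x c ∧ I y c} := by
      ext c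
      refine ⟨fun h => ⟨g⁻¹ • c, ?_, smul_inv_smul g c⟩, ?_⟩
      · show I x (g⁻¹ • c) ∧ I y (g⁻¹ • c)
        rwa [← hinv g, ← hinv g y, smul_inv_smul]
      · rintro ⟨d, hd, rfl⟩
        exact ⟨(hinv g x d).2 hd.1, (hinv g y d).2 hd.2⟩
    rw [e, Set.ncard_image_of_injective _ (MulAction.injective g)]
  have hpair : ∀ x y, ({c | I x c ∧ I y c}.ncard : ℤ) =
      (lam : ℤ) + ((k : ℤ) - lam) * (if x = y then 1 else 0) := by
    intro x y
    by_cases h : x = y
    · subst h; simp [hrow]
    · simp [h, hlamc x y h]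
  -- counting incidences against a block
  have hx1 : ∀ d : G ⧸ H, ∑ c : G ⧸ H, ({w | I w d ∧ I w c}.ncard : ℤ) = (k : ℤ) * k := by
    intro d
    simp only [ncard_eq_sum_ite]
    rw [Finset.sum_comm]
    calc ∑ w : Ω, ∑ c : G ⧸ H, (if I w d ∧ I w c then (1 : ℤ) else 0)
        = ∑ w : Ω, (if I w d then (1 : ℤ) else 0) * k := by
          refine Finset.sum_congr rfl fun w _ => ?_
          by_cases hw : I w d
          · simp only [hw, true_and, if_true, one_mul]
            rw [← ncard_eq_sum_ite, hrow]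
          · simp [hw]
      _ = _ := by rw [← Finset.sum_mul, ← ncard_eq_sum_ite, hcol]
  have hx2 : ∀ d : G ⧸ H, ∑ c : G ⧸ H,
      ({w | I w d ∧ I w c}.ncard : ℤ) * {w | I w d ∧ I w c}.ncard =
        (lam : ℤ) * k * k + ((k : ℤ) - lam) * k := by
    intro d
    simp only [ncard_eq_sum_ite, Finset.sum_mul_sum]
    rw [Finset.sum_comm]
    simp_rw [Finset.sum_comm (γ := G ⧸ H) (α := Ω)]
    calc ∑ x : Ω, ∑ y : Ω, ∑ c : G ⧸ H,
          ((if I x d ∧ I x c then (1 : ℤ) else 0) * (if I y d ∧ I y c then 1 else 0))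
        = ∑ x : Ω, ∑ y : Ω, (if I x d then (1 : ℤ) else 0) * ((if I y d then 1 else 0) *
            ((lam : ℤ) + ((k : ℤ) - lam) * (if x = y then 1 else 0))) := by
          refine Finset.sum_congr rfl fun x _ => Finset.sum_congr rfl fun y _ => ?_
          rw [← hpair, ncard_eq_sum_ite, Finset.mul_sum, Finset.mul_sum]
          refine Finset.sum_congr rfl fun c _ => ?_
          by_cases h1 : I x d <;> by_cases h2 : I y d <;> by_cases h3 : I x c <;>
            by_cases h4 : I y c <;> simp [h1, h2, h3, h4]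
      _ = _ := by
          simp only [← Finset.mul_sum, mul_add, Finset.sum_add_distrib]
          have e1 : ∑ y : Ω, (if I y d then (1 : ℤ) else 0) = k := by
            rw [← ncard_eq_sum_ite, hcol]
          have e2 : ∀ x : Ω, ∑ y : Ω, (if I y d then (1 : ℤ) else 0) *
              (((k : ℤ) - lam) * (if x = y then 1 else 0)) =
              ((k : ℤ) - lam) * (if I x d then 1 else 0) := fun x => by
            simp [Finset.sum_ite_eq, mul_comm]
          simp only [← Finset.sum_mul, e1, e2]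
          have e3 : ∑ x : Ω, (if I x d then (1 : ℤ) else 0) *
              (((k : ℤ) - lam) * (if I x d then 1 else 0)) = ((k : ℤ) - lam) * k := by
            rw [← e1, Finset.mul_sum]
            refine Finset.sum_congr rfl fun x _ => ?_
            by_cases h : I x d <;> simp [h]
          rw [e3]
          ring
  have hparam : (k : ℤ) * k = (v : ℤ) * lam + ((k : ℤ) - lam) := by
    have h1 : ∑ y : Ω, ∑ c : G ⧸ H, (if I a c ∧ I y c then (1 : ℤ) else 0) = (k : ℤ) * k := by
      rw [Finset.sum_comm]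
      calc ∑ c : G ⧸ H, ∑ y : Ω, (if I a c ∧ I y c then (1 : ℤ) else 0)
          = ∑ c : G ⧸ H, (if I a c then (1 : ℤ) else 0) * k := by
            refine Finset.sum_congr rfl fun c _ => ?_
            by_cases hw : I a c
            · simp only [hw, true_and, if_true, one_mul]
              rw [← ncard_eq_sum_ite, hcol]
            · simp [hw]
        _ = _ := by rw [← Finset.sum_mul, ← ncard_eq_sum_ite, hrow]
    simp only [← ncard_eq_sum_ite, hpair, Finset.sum_add_distrib, Finset.sum_const,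
      Finset.card_univ, nsmul_eq_mul, hcP, ← Finset.mul_sum, Finset.sum_ite_eq, Finset.mem_univ,
      if_true, mul_one] at h1
    exact h1.symm
  have hkpos : (2 : ℤ) ≤ k := by exact_mod_cast hk2
  have hv2 : (k : ℤ) + 2 ≤ v := by exact_mod_cast hkv
  have hklam : (lam : ℤ) + 2 ≤ k := by
    by_contra hc
    push_neg at hc
    rcases (show (k : ℤ) ≤ lam ∨ (k : ℤ) = lam + 1 by omega) with h | h <;> nlinarith
  have hlam1 : 1 ≤ lam := by
    by_contra hc
    have h0 : lam = 0 := by omega
    rw [h0] at hparam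
    push_cast at hparam
    nlinarith
  -- two blocks meet in `lam` points
  have hdual : ∀ c d : G ⧸ H, c ≠ d → {w | I w c ∧ I w d}.ncard = lam := by
    intro c d hcd
    let x : G ⧸ H → ℤ := fun b => {w | I w c ∧ I w b}.ncard
    have hxc : x c = k := by
      simp only [x, and_self]
      rw [hcol]
    have h : ∑ b : G ⧸ H, (x b - lam) * (x b - lam) = ((k : ℤ) - lam) * ((k : ℤ) - lam) := by
      have e : ∀ b, (x b - lam) * (x b - lam) = x b * x b - 2 * (lam : ℤ) * x b + lam * lam :=
        fun b => by ring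
      simp only [e, Finset.sum_add_distrib, Finset.sum_sub_distrib, ← Finset.mul_sum,
        Finset.sum_const, Finset.card_univ, nsmul_eq_mul, hcB]
      rw [hx1 c, hx2 c]
      linear_combination -(lam : ℤ) * hparam
    rw [← Finset.add_sum_erase _ _ (Finset.mem_univ c), hxc, add_eq_left,
      Finset.sum_eq_zero_iff_of_nonneg fun b _ => mul_self_nonneg _] at h
    have := h d (Finset.mem_erase.2 ⟨hcd.symm, Finset.mem_univ _⟩)
    rw [mul_self_eq_zero, sub_eq_zero] at this
    exact Int.ofNat_inj.1 this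
  have hbase : ∀ w, I w ((1 : G) : G ⧸ H) ↔ w ∈ O := fun w => by rw [hI, inv_one, one_smul]
  -- stabilisers
  have hstab : ∀ (g : G) (x y : Ω), (g⁻¹ • y) ∈ orbit H (g⁻¹ • x) →
      ∃ u : G, u • (g : G ⧸ H) = (g : G ⧸ H) ∧ u • x = y := by
    rintro g x y ⟨h, hh⟩
    refine ⟨g * h * g⁻¹, ?_, ?_⟩
    · rw [Quotient.smul_coe, smul_eq_mul, QuotientGroup.eq]
      simpa [mul_assoc] using (H.inv_mem h.2)
    · rw [mul_smul, mul_smul, show (h : G) • g⁻¹ • x = g⁻¹ • y from hh, smul_inv_smul]
  have htrIn : ∀ (c : G ⧸ H) (x y : Ω), I x c → I y c → ∃ g : G, g • c = c ∧ g • x = y := by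
    intro c x y hx hy
    induction c using QuotientGroup.induction_on with
    | H g =>
      rw [hI] at hx hy
      refine hstab g x y ?_
      rw [orbit_eq_iff.2 hx]
      exact hy
  have htrOut : ∀ (c : G ⧸ H) (x y : Ω), ¬ I x c → ¬ I y c → ∃ g : G, g • c = c ∧ g • x = y := by
    intro c x y hx hy
    induction c using QuotientGroup.induction_on with
    | H g =>
      rw [hI] at hx hy
      exact hstab g x y (hout _ _ hx hy)
  have hne : ∀ c d : G ⧸ H, c ≠ d → ¬ ∀ w, I w c → I w d := by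
    intro c d hcd hall
    have h1 := hdual c d hcd
    rw [show {w | I w c ∧ I w d} = {w | I w c} from Set.ext fun w =>
      ⟨fun h => h.1, fun h => ⟨h, hall w h⟩⟩, hcol] at h1
    omega
  -- the stabiliser is transitive on the other blocks
  have horb : ∀ c d d' : G ⧸ H, c ≠ d → c ≠ d' → ∃ g : G, g • c = c ∧ g • d = d' := by
    intro c d d' hd hd'
    let S : Set (G ⧸ H) := {b | ∃ g : G, g • c = c ∧ g • d = b}
    have hS : ∀ (g : G) (b : G ⧸ H), g • c = c → b ∈ S → g • b ∈ S := by
      rintro g b hg ⟨u, hu, rfl⟩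
      exact ⟨g * u, by rw [mul_smul, hu, hg], mul_smul g u d⟩
    let f : Ω → ℤ := fun w => ∑ b : G ⧸ H, if I w b ∧ b ∈ S then 1 else 0
    have hf : ∀ g : G, g • c = c → ∀ w, f (g • w) = f w := by
      intro g hg w
      simp only [f]
      rw [← Equiv.sum_comp (MulAction.toPerm g)]
      refine Finset.sum_congr rfl fun b _ => if_congr ?_ rfl rfl
      simp only [MulAction.toPerm_apply, hinv]
      refine and_congr_right fun _ => ⟨fun h => ?_, hS g b hg⟩
      have := hS g⁻¹ _ (inv_smul_eq_iff.2 hg.symm) h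
      rwa [inv_smul_smul] at this
    obtain ⟨x₀, hx₀⟩ := Set.nonempty_of_ncard_ne_zero (s := {w | I w c}) (by rw [hcol]; omega)
    obtain ⟨y₀, hy₀⟩ : ∃ y, ¬ I y c := by
      by_contra hc
      push_neg at hc
      have := hcol c
      rw [Set.eq_univ_of_forall (s := {w | I w c}) hc, Set.ncard_univ] at this
      omega
    have hf' : ∀ w, f w = f y₀ + (f x₀ - f y₀) * (if I w c then 1 else 0) := by
      intro w
      by_cases hw : I w c
      · obtain ⟨g, hg, rfl⟩ := htrIn c x₀ w hx₀ hw
        simp [hw, hf g hg]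
      · obtain ⟨g, hg, rfl⟩ := htrOut c y₀ w hy₀ hw
        simp [hw, hf g hg]
    have key : ∀ b, c ≠ b → ∑ w : Ω, (if I w b then (1 : ℤ) else 0) * f w =
        (k : ℤ) * f y₀ + (f x₀ - f y₀) * lam := by
      intro b hb
      have e : ∀ w, (if I w b then (1 : ℤ) else 0) * f w =
          (if I w b then (1 : ℤ) else 0) * f y₀ +
            (f x₀ - f y₀) * (if I w b ∧ I w c then 1 else 0) := by
        intro w
        rw [hf' w]
        by_cases h1 : I w b <;> by_cases h2 : I w c <;> simp [h1, h2]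
      rw [Finset.sum_congr rfl fun w _ => e w, Finset.sum_add_distrib, ← Finset.sum_mul,
        ← Finset.mul_sum, ← ncard_eq_sum_ite, hcol, ← ncard_eq_sum_ite, hdual b c hb.symm]
    have key2 : ∀ b, ∑ w : Ω, (if I w b then (1 : ℤ) else 0) * f w =
        (lam : ℤ) * S.ncard + ((k : ℤ) - lam) * (if b ∈ S then 1 else 0) := by
      intro b
      simp only [f, Finset.mul_sum]
      rw [Finset.sum_comm]
      have e : ∀ b' : G ⧸ H, ∑ w : Ω, (if I w b then (1 : ℤ) else 0) *
          (if I w b' ∧ b' ∈ S then 1 else 0) =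
          (if b' ∈ S then (1 : ℤ) else 0) * ((lam : ℤ) + ((k : ℤ) - lam) *
            (if b = b' then 1 else 0)) := by
        intro b'
        have : ({w | I w b ∧ I w b'}.ncard : ℤ) = (lam : ℤ) + ((k : ℤ) - lam) *
            (if b = b' then 1 else 0) := by
          by_cases h : b = b'
          · subst h; simp [hcol]
          · simp [h, hdual b b' h]
        rw [← this, ncard_eq_sum_ite, Finset.mul_sum]
        refine Finset.sum_congr rfl fun w _ => ?_
        by_cases h1 : I w b <;> by_cases h2 : I w b' <;> by_cases h3 : b' ∈ S <;>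
          simp [h1, h2, h3]
      rw [Finset.sum_congr rfl fun b' _ => e b']
      simp only [mul_add, Finset.sum_add_distrib, ← Finset.sum_mul]
      rw [← ncard_eq_sum_ite, show {a | a ∈ S} = S from rfl]
      have e2 : ∑ b' : G ⧸ H, (if b' ∈ S then (1 : ℤ) else 0) *
          (((k : ℤ) - lam) * (if b = b' then 1 else 0)) =
          ((k : ℤ) - lam) * (if b ∈ S then 1 else 0) := by
        rw [Finset.sum_eq_single b (fun b' _ hb' => by simp [Ne.symm hb'])
          (fun h => absurd (Finset.mem_univ b) h)]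
        split <;> simp
      rw [e2]
      ring
    have hdS : d ∈ S := ⟨1, one_smul G c, one_smul G d⟩
    by_contra hn
    have hd'S : d' ∉ S := fun h => hn h
    have h1 := (key2 d).symm.trans (key d hd)
    have h2 := (key2 d').symm.trans (key d' hd')
    rw [if_pos hdS] at h1
    rw [if_neg hd'S] at h2
    linarith
  have htrB : ∀ c d : G ⧸ H, ∃ g : G, g • c = d := fun c d => MulAction.exists_smul_eq G c d
  refine ⟨{
    I := I
    k := k
    lam := lam
    inv := hinv
    card_pts := hcol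
    card_blks := hrow
    lam_blks := hlamc
    lam_pts := hdual
    card_eq := hv.symm
    nonempty_pts := ⟨a⟩
    lam_pos := hlam1
    lam_lt := by omega
    faithful := fun g hg => eq_of_smul_eq_smul fun w => by rw [hg w, one_smul]
    faithful_blks := fun g hg => ?_
    ttP := fun p q p' q' hpq hpq' => h2' hpq hpq'
    ttB := fun c d c' d' hcd hcd' => ?_
    trIn := htrIn
    trOut := htrOut }, ?_⟩
  · refine eq_of_smul_eq_smul (α := Ω) fun w => ?_
    rw [one_smul]
    by_contra hm
    have h1 := hlamc (g • w) w hm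
    rw [show {c | I (g • w) c ∧ I w c} = {c | I w c} from Set.ext fun c =>
      ⟨fun h => h.2, fun h => ⟨by rw [← hg c]; exact (hinv g w c).2 h, h⟩⟩, hrow] at h1
    omega
  · obtain ⟨g, hg⟩ := htrB c c'
    have hne' : c' ≠ g • d := fun e => hcd (MulAction.injective g (hg.trans e))
    obtain ⟨u, hu, hu'⟩ := horb c' (g • d) d' hne' hcd'
    exact ⟨u * g, by rw [mul_smul, hg, hu], by rw [mul_smul, hu']⟩
  · exact ⟨(h₀ : G), fun e => hh₀ (Subtype.ext e), ((1 : G) : G ⧸ H),
      fun p hp => hh₀fix p ((hbase p).1 hp)⟩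

theorem recognition [Finite Ω] (h2 : IsMultiplyPretransitive G Ω 2) (H : Subgroup G)
    (hidx : H.index = Nat.card Ω) (hnt : ¬ IsPretransitive H Ω)
    (hfix : ∀ a : Ω, ∃ h : H, h • a ≠ a)
    (hunf : ∃ a : Ω, ∃ h : H, h ≠ 1 ∧ ∀ b ∈ orbit H a, h • b = b) :
    ∃ (m : ℕ) (F : Type) (_ : Field F) (_ : Fintype F), 2 ≤ m ∧
      Nat.card Ω = (Fintype.card F ^ (m + 1) - 1) / (Fintype.card F - 1) ∧
      ∃ N : Subgroup G, N.Normal ∧
        Nonempty (N ≃* Matrix.ProjectiveSpecialLinearGroup (Fin (m + 1)) F) ∧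
        Subgroup.centralizer (N : Set G) = ⊥ := by
  have := Fintype.ofFinite Ω
  have := Fintype.ofFinite (G ⧸ H)
  obtain ⟨D, hA⟩ := exists_des H h2 hidx hnt hfix hunf
  have fin : ∀ {F : Type} [Field F] [Fintype F] {m : ℕ} (e : Ω ≃ Projectivization F (Fin (m + 1) → F)),
      2 ≤ m → IsCoord D e →
      ∃ (m : ℕ) (F : Type) (_ : Field F) (_ : Fintype F), 2 ≤ m ∧
        Nat.card Ω = (Fintype.card F ^ (m + 1) - 1) / (Fintype.card F - 1) ∧
        ∃ N : Subgroup G, N.Normal ∧
          Nonempty (N ≃* Matrix.ProjectiveSpecialLinearGroup (Fin (m + 1)) F) ∧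
          Subgroup.centralizer (N : Set G) = ⊥ := by
    intro F _ _ m e hm he
    refine ⟨m, F, inferInstance, inferInstance, hm, ?_, Des.exists_psl e he hA⟩
    rw [Nat.card_congr e, Projectivization.card'' F, Nat.card_fun, Nat.card_fin,
      Nat.card_eq_fintype_card]
  by_cases hl : 2 ≤ D.lam
  · obtain ⟨F, _, _, m, e, hm, he⟩ := exists_coordinates D hA hl
    exact fin e hm he
  · obtain ⟨F, _, _, e, he⟩ := exists_coordinates_plane D (by have := D.lam_pos; omega)
    exact fin e le_rfl he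

end Cfsg.Agent.CG26.Ito
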