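import Cfsg.Agent.CG26.Ito.Axial

/-!
# Every line meets every block
-/

set_option autoImplicit false
set_option linter.unusedSectionVars false

namespace Cfsg.Agent.CG26.Ito

variable {G P B : Type*} [Group G] [MulAction G P] [MulAction G B] [Fintype P] [Fintype B]
  [Finite G] (D : Des G P B)

namespace Des

include D

/-- The automorphisms with axis `c` and centre `x`. -/
def Z (c : B) (x : P) : Subgroup G where
  carrier := {g | D.Ax g c ∧ D.Ce g x}
  one_mem' := ⟨fun p _ => one_smul G p, fun d _ => one_smul G d⟩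
  mul_mem' {a b} ha hb := ⟨(D.K c).mul_mem ha.1 hb.1,
    fun d hd => by rw [mul_smul, hb.2 d hd, ha.2 d hd]⟩
  inv_mem' {a} ha := ⟨(D.K c).inv_mem ha.1, fun d hd => inv_smul_eq_iff.2 (ha.2 d hd).symm⟩

theorem mem_Z {g : G} {c : B} {x : P} : g ∈ D.Z c x ↔ D.Ax g c ∧ D.Ce g x := Iff.rfl

theorem semi_of_Z {g : G} {c : B} {x : P} (hg : g ∈ D.Z c x) (h1 : g ≠ 1) (hx : D.I x c) :
    D.Semi g c := fun p hp hgp => by
  have := D.ce_unique h1 hg.1 hg.2 (D.ce_of_offFix hg.1 ⟨hp, hgp⟩)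
  exact hp (this ▸ hx)

theorem Z_inf {g : G} {c : B} {x y : P} (hxy : x ≠ y) (hx : g ∈ D.Z c x) (hy : g ∈ D.Z c y) :
    g = 1 := by
  by_contra h
  exact hxy (D.ce_unique h hx.1 hx.2 hy.2)

theorem conj_Z {g : G} {c : B} {x : P} (hg : g ∈ D.Z c x) (a : G) :
    a * g * a⁻¹ ∈ D.Z (a • c) (a • x) := ⟨D.ax_conj hg.1 a, D.ce_conj hg.2 a⟩

theorem card_Z_eq {c : B} {x y : P} (hx : D.I x c) (hy : D.I y c) :
    Nat.card (D.Z c x) = Nat.card (D.Z c y) := by
  obtain ⟨a, hac, hax⟩ := D.trIn c x y hx hy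
  have mem : ∀ g ∈ D.Z c x, a * g * a⁻¹ ∈ D.Z c y := fun g hg => by
    have := D.conj_Z hg a
    rwa [hac, hax] at this
  have mem' : ∀ g ∈ D.Z c y, a⁻¹ * g * a ∈ D.Z c x := fun g hg => by
    have := D.conj_Z hg a⁻¹
    rwa [inv_inv, inv_smul_eq_iff.2 hac.symm, inv_smul_eq_iff.2 hax.symm] at this
  exact Nat.card_congr
    { toFun := fun g => ⟨a * g.1 * a⁻¹, mem _ g.2⟩
      invFun := fun g => ⟨a⁻¹ * g.1 * a, mem' _ g.2⟩
      left_inv := fun g => Subtype.ext (by simp [mul_assoc])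
      right_inv := fun g => Subtype.ext (by simp [mul_assoc]) }

theorem two_le_card_Z (hA : D.HasAxial) {c : B} {x : P} (hx : D.I x c) :
    2 ≤ Nat.card (D.Z c x) := by
  obtain ⟨g, hg, hgc, hs⟩ := D.exists_elation hA c
  obtain ⟨y, hy, hgy⟩ := D.exists_centre hA hgc hs
  rw [D.card_Z_eq hx hy]
  by_contra h
  have : Nat.card (D.Z c y) ≤ 1 := by omega
  have hb := Subgroup.eq_bot_of_card_le _ this
  have hmem : g ∈ D.Z c y := ⟨hgc, hgy⟩
  rw [hb, Subgroup.mem_bot] at hmem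
  exact hg hmem

theorem fixed_iff_centre {g : G} {c : B} {x : P} (hg : g ∈ D.Z c x) (h1 : g ≠ 1)
    (hx : D.I x c) (d : B) : g • d = d ↔ D.I x d := by
  have hF : D.offFix g c = ∅ :=
    Set.eq_empty_of_forall_notMem fun p hp => D.semi_of_Z hg h1 hx p hp.1 hp.2
  have h := D.ncard_fixBlks hg.1
  rw [hF, Set.ncard_empty, add_zero] at h
  have heq : {d : B | D.I x d} = {d | g • d = d} :=
    Set.eq_of_subset_of_ncard_le (fun d hd => hg.2 d hd) (by rw [h, D.card_blks])
      (Set.toFinite _)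
  exact ((Set.ext_iff.1 heq) d).symm

/-- Elations with centre in a given subset of the axis, counted. -/
theorem ncard_centred (c : B) (x₀ : P) (hx₀ : D.I x₀ c) (A : Set P)
    (hA : ∀ x ∈ A, D.I x c) :
    {g : G | g ≠ 1 ∧ ∃ x ∈ A, g ∈ D.Z c x}.ncard = A.ncard * (Nat.card (D.Z c x₀) - 1) := by
  classical
  have : Fintype G := Fintype.ofFinite G
  let S : P → Finset G := fun x => Finset.univ.filter fun g => g ≠ 1 ∧ g ∈ D.Z c x
  have hS : ∀ x ∈ A.toFinset, (S x).card = Nat.card (D.Z c x₀) - 1 := by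
    intro x hx
    rw [← D.card_Z_eq (hA x (Set.mem_toFinset.1 hx)) hx₀, ← Set.ncard_coe_finset]
    have e : ((S x : Finset G) : Set G) = (D.Z c x : Set G) \ {1} := by
      ext g; simp [S]; tauto
    rw [e, Set.ncard_sdiff_singleton_of_mem (D.Z c x).one_mem, ← Nat.card_coe_set_eq]
    rfl
  have hd : ((A.toFinset : Finset P) : Set P).PairwiseDisjoint S := by
    intro x _ y _ hxy
    rw [Function.onFun, Finset.disjoint_left]
    intro g h1 h2
    simp only [S, Finset.mem_filter] at h1 h2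
    exact h1.2.1 (D.Z_inf hxy h1.2.2 h2.2.2)
  have e : {g : G | g ≠ 1 ∧ ∃ x ∈ A, g ∈ D.Z c x} = ((A.toFinset.biUnion S : Finset G) : Set G) := by
    ext g; simp [S]
  rw [e, Set.ncard_coe_finset, Finset.card_biUnion hd, Finset.sum_congr rfl hS, Finset.sum_const,
    smul_eq_mul, ← Set.ncard_eq_toFinset_card']

theorem exists_hom (hH : D.HasHom) {c : B} {p : P} (hp : ¬ D.I p c) :
    ∃ g : G, g ≠ 1 ∧ D.Ax g c ∧ g • p = p := by
  obtain ⟨g, hg, d, r, hgd, hr, hgr⟩ := hH
  obtain ⟨a, ha⟩ := D.trB d c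
  have har : ¬ D.I (a • r) c := fun h => hr ((D.inv a r d).1 (ha.symm ▸ h))
  obtain ⟨b, hbc, hbp⟩ := D.trOut c (a • r) p har hp
  refine ⟨(b * a) * g * (b * a)⁻¹, D.conj_ne_one hg _, ?_, ?_⟩
  · have := D.ax_conj hgd (b * a)
    rwa [mul_smul, ha, hbc] at this
  · rw [show p = (b * a) • r by rw [mul_smul, hbp], mul_smul, inv_smul_smul, mul_smul, hgr]
  
/-- A homology forces every line to meet every block. -/
theorem meets_of_hom (hH : D.HasHom) : D.Meets := by
  intro p q hpq c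
  by_cases hp : D.I p c
  · exact ⟨p, D.left_mem_line p q, hp⟩
  by_contra hno
  push_neg at hno
  obtain ⟨g, hg, hgc, hgp⟩ := D.exists_hom hH hp
  let H : Subgroup G := Subgroup.zpowers g
  have hHK : ∀ a ∈ H, D.Ax a c ∧ a • p = p := by
    intro a ha
    have h1 : H ≤ D.K c ⊓ MulAction.stabilizer G p :=
      Subgroup.zpowers_le.2 ⟨hgc, hgp⟩
    exact h1 ha
  have hinv : ∀ y, p ≠ y → ∀ a ∈ H, ∀ r ∈ D.line p y, a • r ∈ D.line p y := by
    intro y hpy a ha r hr d hpd hyd
    have hce := D.ce_of_offFix (hHK a ha).1 ⟨hp, (hHK a ha).2⟩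
    have := (D.inv a r d).2 (hr d hpd hyd)
    rwa [hce d hpd] at this
  have hfree : ∀ a ∈ H, ∀ r : P, ¬ D.I r c → r ≠ p → a • r = r → a = 1 := by
    intro a ha r hrc hrp har
    by_contra h1
    exact hrp (D.offFix_unique h1 (hHK a ha).1 ⟨hrc, har⟩ ⟨hp, (hHK a ha).2⟩)
  -- a line missing the axis
  have hd1 : Nat.card H ∣ D.lineSize - 1 := by
    rw [← D.ncard_line hpq, ← Set.ncard_sdiff_singleton_of_mem (D.left_mem_line p q)]
    refine dvd_ncard_of_free H _ (fun a ha r hr => ⟨hinv q hpq a ha r hr.1, fun e => hr.2 ?_⟩)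
      fun a ha r hr h => hfree a ha r (hno r hr.1) hr.2 h
    have e' : a • r = a • p := (Set.mem_singleton_iff.1 e).trans (hHK a ha).2.symm
    exact MulAction.injective a e'
  -- a line meeting it
  obtain ⟨x, hx⟩ := D.exists_mem c
  have hpx : p ≠ x := fun e => hp (e ▸ hx)
  have hd2 : Nat.card H ∣ D.lineSize - 2 := by
    have e : (D.line p x \ {p, x}).ncard = D.lineSize - 2 := by
      rw [Set.ncard_diff ?_ (Set.toFinite _), Set.ncard_pair hpx, D.ncard_line hpx]
      rintro r (rfl | rfl)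
      exacts [D.left_mem_line _ _, D.right_mem_line _ _]
    rw [← e]
    refine dvd_ncard_of_free H _ (fun a ha r hr => ⟨hinv x hpx a ha r hr.1, fun e => hr.2 ?_⟩)
      fun a ha r hr h => ?_
    · rcases e with e | e
      · exact Or.inl (MulAction.injective a (e.trans (hHK a ha).2.symm))
      · exact Or.inr (MulAction.injective a
          ((Set.mem_singleton_iff.1 e).trans ((hHK a ha).1 x hx).symm))
    · have hrc : ¬ D.I r c := fun h' => hr.2 (Or.inr
        (D.meet_unique hpx hr.1 (D.right_mem_line p x) h' hx hp))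
      exact hfree a ha r hrc (fun e => hr.2 (Or.inl e)) h
  have h := D.two_le_lineSize
  have h1 : Nat.card H ∣ (D.lineSize - 1) - (D.lineSize - 2) := Nat.dvd_sub hd1 hd2
  rw [show (D.lineSize - 1) - (D.lineSize - 2) = 1 by omega, Nat.dvd_one, Nat.card_zpowers,
    orderOf_eq_one_iff] at h1
  exact hg h1

theorem K_eq_centred (hA : D.HasAxial) (hnh : ¬ D.HasHom) {g : G} {c : B} (hg : D.Ax g c)
    (h1 : g ≠ 1) : ∃ x, D.I x c ∧ g ∈ D.Z c x := by
  obtain ⟨x, hx, hgx⟩ := D.exists_centre hA hg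
    (fun p hp hgp => hnh ⟨g, h1, c, p, hg, hp, hgp⟩)
  exact ⟨x, hx, hg, hgx⟩

theorem card_K_noHom (hA : D.HasAxial) (hnh : ¬ D.HasHom) (c : B) (x₀ : P) (hx₀ : D.I x₀ c) :
    Nat.card (D.K c) = 1 + D.k * (Nat.card (D.Z c x₀) - 1) := by
  have e : ((D.K c : Set G) \ {1}) = {g : G | g ≠ 1 ∧ ∃ x ∈ {x | D.I x c}, g ∈ D.Z c x} := by
    ext g
    constructor
    · rintro ⟨hg, h1⟩
      obtain ⟨x, hx, hgx⟩ := D.K_eq_centred hA hnh hg (by simpa using h1)
      exact ⟨by simpa using h1, x, hx, hgx⟩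
    · rintro ⟨h1, x, -, hgx⟩
      exact ⟨hgx.1, by simpa using h1⟩
  have h := Set.ncard_sdiff_singleton_of_mem (D.K c).one_mem
  rw [e, D.ncard_centred c x₀ hx₀ {x | D.I x c} (fun x hx => hx), D.card_pts,
    ← Nat.card_coe_set_eq] at h
  have : 0 < Nat.card (D.K c) := Nat.card_pos
  rw [show Nat.card ((D.K c : Set G) : Type _) = Nat.card (D.K c) from rfl] at h
  omega

theorem card_stab_noHom (hA : D.HasAxial) (hnh : ¬ D.HasHom) {c d : B} (hcd : c ≠ d) (x₀ : P)
    (hx₀ : D.I x₀ c) :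
    Nat.card (MulAction.stabilizer (D.K c) d) = 1 + D.lam * (Nat.card (D.Z c x₀) - 1) := by
  let S : Subgroup G := D.K c ⊓ MulAction.stabilizer G d
  have e0 : Nat.card (MulAction.stabilizer (D.K c) d) = Nat.card S :=
    Nat.card_congr
      { toFun := fun g => ⟨g.1.1, g.1.2, g.2⟩
        invFun := fun g => ⟨⟨g.1, g.2.1⟩, g.2.2⟩
        left_inv := fun _ => rfl
        right_inv := fun _ => rfl }
  have e : ((S : Set G) \ {1}) =
      {g : G | g ≠ 1 ∧ ∃ x ∈ {x | D.I x c ∧ D.I x d}, g ∈ D.Z c x} := by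
    ext g
    constructor
    · rintro ⟨⟨hg, hgd⟩, h1⟩
      have h1' : g ≠ 1 := by simpa using h1
      obtain ⟨x, hx, hgx⟩ := D.K_eq_centred hA hnh hg h1'
      exact ⟨h1', x, ⟨hx, (D.fixed_iff_centre hgx h1' hx d).1 hgd⟩, hgx⟩
    · rintro ⟨h1, x, hx, hgx⟩
      exact ⟨⟨hgx.1, hgx.2 d hx.2⟩, by simpa using h1⟩
  have h := Set.ncard_sdiff_singleton_of_mem S.one_mem
  rw [e, D.ncard_centred c x₀ hx₀ {x | D.I x c ∧ D.I x d} (fun x hx => hx.1), D.lam_pts c d hcd,
    ← Nat.card_coe_set_eq] at h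
  have : 0 < Nat.card S := Nat.card_pos
  rw [show Nat.card ((S : Set G) : Type _) = Nat.card S from rfl] at h
  omega

/-- The orbit of a block under the axial group lies in a pencil. -/
theorem orbit_subset_pencil {c d : B} (hcd : c ≠ d) :
    MulAction.orbit (D.K c) d ⊆ D.dual.line c d \ {c} := by
  rintro d' ⟨a, rfl⟩
  refine ⟨fun x hxc hxd => ?_, fun e => hcd ?_⟩
  · have := (D.inv a.1 x d).2 hxd
    rwa [a.2 x hxc] at this
  · have e' : a.1 • d = a.1 • c := (Set.mem_singleton_iff.1 e).trans (D.ax_smul a.2).symm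
    exact (MulAction.injective a.1 e').symm

theorem orbit_le_pencil {c d : B} (hcd : c ≠ d) :
    (MulAction.orbit (D.K c) d).ncard ≤ D.dual.lineSize - 1 := by
  refine le_trans (Set.ncard_le_ncard (D.orbit_subset_pencil hcd) (Set.toFinite _)) (le_of_eq ?_)
  rw [Set.ncard_sdiff_singleton_of_mem (D.dual.left_mem_line c d), D.dual.ncard_line hcd]

/-- Without homologies, a line missing a block gives a short line. -/
theorem lineSize_lt_of_not_meets (hA : D.HasAxial) (hnh : ¬ D.HasHom) (h : ¬ D.Meets) :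
    D.lineSize + 2 ≤ D.dual.lineSize := by
  simp only [Meets] at h
  push_neg at h
  obtain ⟨x, y, hxy, d, hd⟩ := h
  obtain ⟨c, hxc, hyc⟩ : ∃ c, D.I x c ∧ D.I y c :=
    Set.nonempty_of_ncard_ne_zero (s := {c | D.I x c ∧ D.I y c})
      (by rw [D.lam_blks x y hxy]; have := D.lam_pos; omega)
  have hcd : c ≠ d := fun e => hd x (D.left_mem_line x y) (e ▸ hxc)
  let Kl : Set G := {g | D.Ax g c ∧ ∀ b, D.I x b → D.I y b → g • b = b}
  have hcov : {g : G | g ≠ 1 ∧ ∃ w ∈ D.line x y, g ∈ D.Z c w} ⊆ Kl \ {1} := by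
    rintro g ⟨h1, w, hw, hgw⟩
    exact ⟨⟨hgw.1, fun b hxb hyb => hgw.2 b (hw b hxb hyb)⟩, by simpa using h1⟩
  have h1 := Set.ncard_le_ncard hcov (Set.toFinite _)
  have hone : (1 : G) ∈ Kl := ⟨fun p _ => one_smul G p, fun b _ _ => one_smul G b⟩
  rw [D.ncard_centred c x hxc _ (D.line_in_blk hxy (D.left_mem_line x y) (D.right_mem_line x y) hxy
    hxc hyc), D.ncard_line hxy, Set.ncard_sdiff_singleton_of_mem hone] at h1
  have hinj : Kl.ncard ≤ (MulAction.orbit (D.K c) d).ncard := by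
    refine Set.ncard_le_ncard_of_injOn (fun g => g • d)
      (fun g hg => ⟨⟨g, hg.1⟩, rfl⟩) ?_ (Set.toFinite _)
    intro a ha b hb e
    have e' : (b⁻¹ * a) • d = d := by
      rw [mul_smul, show a • d = b • d from e, inv_smul_smul]
    by_contra hne
    have hg : D.Ax (b⁻¹ * a) c := (D.K c).mul_mem ((D.K c).inv_mem hb.1) ha.1
    have hne' : b⁻¹ * a ≠ 1 := fun h => hne (inv_mul_eq_one.1 h).symm
    obtain ⟨w, hw, hgw⟩ := D.K_eq_centred hA hnh hg hne'
    refine hd w (fun b' hxb hyb => (D.fixed_iff_centre hgw hne' hw b').1 ?_)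
      ((D.fixed_iff_centre hgw hne' hw d).1 e')
    rw [mul_smul, ha.2 b' hxb hyb, inv_smul_eq_iff, hb.2 b' hxb hyb]
  have h2 := D.orbit_le_pencil hcd
  have h3 := D.two_le_card_Z hA hxc
  have h4 : D.lineSize * 1 ≤ D.lineSize * (Nat.card (D.Z c x) - 1) :=
    Nat.mul_le_mul_left _ (by omega)
  have : 1 ≤ Kl.ncard := (Set.ncard_pos (Set.toFinite _)).2 ⟨1, hone⟩
  omega

/-- Centred subgroups act freely on the rest of a line through the centre. -/
theorem card_Z_dvd_line {c : B} {x p : P} (hx : D.I x c) (hp : ¬ D.I p c) :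
    Nat.card (D.Z c x) ∣ D.lineSize - 1 := by
  have hxp : x ≠ p := fun e => hp (e ▸ hx)
  rw [← D.ncard_line hxp, ← Set.ncard_sdiff_singleton_of_mem (D.left_mem_line x p)]
  refine dvd_ncard_of_free _ _ (fun a ha r hr => ⟨fun b hxb hpb => ?_, fun e => hr.2 ?_⟩)
    fun a ha r hr h => ?_
  · have := (D.inv a r b).2 (hr.1 b hxb hpb)
    rwa [ha.2 b hxb] at this
  · exact MulAction.injective a ((Set.mem_singleton_iff.1 e).trans (ha.1 x hx).symm)
  · by_contra h1
    have hrc : ¬ D.I r c := fun hrc => hr.2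
      (D.meet_unique (Ne.symm hxp) (D.line_comm x p ▸ hr.1) (D.right_mem_line p x) hrc hx hp)
    exact D.semi_of_Z ha h1 hx r hrc h

/-- Without homologies, and with maximal pencils, the centred subgroups are full. -/
theorem card_Z_of_dual_meets (hA : D.HasAxial) (hnh : ¬ D.HasHom) (hM : D.dual.Meets) {c : B}
    {x : P} (hx : D.I x c) : Nat.card (D.Z c x) = D.dual.lineSize - 1 := by
  classical
  have hkq : D.k - 1 = D.lam * (D.dual.lineSize - 1) := D.dual.meets_iff'.1 hM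
  set q := D.dual.lineSize - 1 with hq
  set z := Nat.card (D.Z c x) with hz
  have hz2 : 2 ≤ z := D.two_le_card_Z hA hx
  have hs := D.card_K_noHom hA hnh c x hx
  rw [← hz] at hs
  -- a block not through the centre
  obtain ⟨d, hd⟩ : ∃ d, ¬ D.I x d := D.dual.exists_not_mem x
  have hcd : c ≠ d := fun e => hd (e ▸ hx)
  have he : ∀ d', c ≠ d' →
      Nat.card (MulAction.stabilizer (D.K c) d') = 1 + D.lam * (z - 1) :=
    fun d' h => D.card_stab_noHom hA hnh h x hx
  set u := (MulAction.orbit (D.K c) d).ncard with hu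
  have hue : u * (1 + D.lam * (z - 1)) = 1 + D.k * (z - 1) := by
    rw [← he d hcd, ← hs]
    exact orbit_mul_stab _ d
  have huq : u ∣ q := by
    have e : (D.dual.line c d \ {c}).ncard = q := by
      rw [Set.ncard_sdiff_singleton_of_mem (D.dual.left_mem_line c d), D.dual.ncard_line hcd]
    rw [← e]
    refine dvd_ncard_of_stab (D.K c) (D.dual.line c d \ {c})
      (fun a ha b hb => ⟨fun r hrc hrd => ?_, fun e => hb.2 ?_⟩) u
      fun b hb => ?_
    · have := (D.inv a r b).2 (hb.1 r hrc hrd)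
      rwa [ha r hrc] at this
    · exact MulAction.injective a ((Set.mem_singleton_iff.1 e).trans (D.ax_smul ha).symm)
    · have hb' : c ≠ b := fun e => hb.2 e.symm
      have h1 := orbit_mul_stab (D.K c) b
      rw [he b hb', hs, ← hue] at h1
      exact Nat.eq_of_mul_eq_mul_right (by omega) h1
  have hzu : z ∣ u := by
    refine dvd_ncard_of_free (D.Z c x) _ (fun a ha b hb => ?_) fun a ha b hb h => ?_
    · obtain ⟨g, rfl⟩ := hb
      exact ⟨⟨a * g.1, (D.K c).mul_mem ha.1 g.2⟩, mul_smul a g.1 d⟩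
    · by_contra h1
      obtain ⟨g, rfl⟩ := hb
      have h2 := (D.fixed_iff_centre ha h1 hx _).1 h
      change D.I x (g.1 • d) at h2
      rw [D.inv'', inv_smul_eq_iff.2 (g.2 x hx).symm] at h2
      exact hd h2
  have hk1 : D.k = 1 + D.lam * q := by have := D.lam_lt; omega
  obtain ⟨j, hj⟩ := huq
  have hq0 : q ≠ 0 := by
    intro h0
    rw [h0, mul_zero] at hkq
    have := D.lam_lt
    omega
  have hj0 : j ≠ 0 := fun h0 => hq0 (by rw [hj, h0, mul_zero])
  have hu0 : u ≠ 0 := fun h0 => hq0 (by rw [hj, h0, zero_mul])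
  have hzle : z ≤ u := Nat.le_of_dvd (Nat.pos_of_ne_zero hu0) hzu
  obtain ⟨w, hw⟩ : ∃ w, z = w + 2 := ⟨z - 2, by omega⟩
  have hlam := D.lam_pos
  have key : (u : ℤ) * (1 + D.lam * (w + 1)) = 1 + (1 + D.lam * (u * j)) * (w + 1) := by
    have := congrArg (fun n : ℕ => (n : ℤ)) hue
    rw [hk1, hj, hw, show w + 2 - 1 = w + 1 by omega] at this
    push_cast at this
    exact this
  rcases Nat.lt_or_ge j 2 with hj2 | hj2
  · obtain rfl : j = 1 := by omega
    rw [hj, mul_one]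
    have : (z : ℤ) = u := by rw [hw]; push_cast; linear_combination -key
    exact_mod_cast this
  · exfalso
    have h1 : (2 : ℤ) ≤ j := by exact_mod_cast hj2
    have h2 : (1 : ℤ) ≤ D.lam := by exact_mod_cast hlam
    have h3 : (1 : ℤ) ≤ u := by exact_mod_cast Nat.pos_of_ne_zero hu0
    have h4 : (0 : ℤ) ≤ (D.lam : ℤ) * u * (w + 1) * ((j : ℤ) - 2) := by
      have : (0 : ℤ) ≤ (j : ℤ) - 2 := by omega
      positivity
    have h5 : (u : ℤ) ≤ (D.lam : ℤ) * u * (w + 1) := by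
      have h : (1 : ℤ) ≤ (D.lam : ℤ) * (w + 1) := by nlinarith
      nlinarith
    nlinarith

/-- The line condition follows from the pencil condition, without homologies. -/
theorem meets_of_dual_meets (hA : D.HasAxial) (hnh : ¬ D.HasHom) (hM : D.dual.Meets) :
    D.Meets := by
  obtain ⟨c⟩ := D.nonempty_blks
  obtain ⟨x, hx⟩ := D.exists_mem c
  obtain ⟨p, hp⟩ := D.exists_not_mem c
  have h1 := D.card_Z_dvd_line hx hp
  rw [D.card_Z_of_dual_meets hA hnh hM hx] at h1
  have h2 := Nat.le_of_dvd (by have := D.two_le_lineSize; omega) h1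
  have h3 := Nat.mul_le_mul_left D.lam h2
  have h4 : D.k - 1 = D.lam * (D.dual.lineSize - 1) := D.dual.meets_iff'.1 hM
  rw [D.meets_iff']
  exact le_antisymm (h4 ▸ h3) D.lam_mul_lineSize_le

theorem hasAxial_dual (hA : D.HasAxial) : D.dual.HasAxial := by
  obtain ⟨c⟩ := D.nonempty_blks
  obtain ⟨g, hg, hgc, hs⟩ := D.exists_elation hA c
  obtain ⟨x, -, hgx⟩ := D.exists_centre hA hgc hs
  exact ⟨g, hg, x, hgx⟩

/-- **Every line meets every block.** -/
theorem meets (hA : D.HasAxial) : D.Meets := by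
  by_cases hH : D.HasHom
  · exact D.meets_of_hom hH
  have hA' := D.hasAxial_dual hA
  by_cases hH' : D.dual.HasHom
  · exact D.meets_of_dual_meets hA hH (D.dual.meets_of_hom hH')
  by_contra hM
  by_cases hM' : D.dual.Meets
  · exact hM (D.meets_of_dual_meets hA hH hM')
  have h1 := D.lineSize_lt_of_not_meets hA hH hM
  have h2 : D.dual.lineSize + 2 ≤ D.lineSize := D.dual.lineSize_lt_of_not_meets hA' hH' hM'
  omega

theorem k_eq (hA : D.HasAxial) : D.k = 1 + D.lam * (D.lineSize - 1) := by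
  have h := D.meets_iff'.1 (D.meets hA)
  have := D.lam_lt
  omega

theorem dual_lineSize (hA : D.HasAxial) : D.dual.lineSize = D.lineSize := by
  have h1 := D.meets_iff'.1 (D.meets hA)
  have h2 : D.k - 1 = D.lam * (D.dual.lineSize - 1) :=
    D.dual.meets_iff'.1 (D.dual.meets (D.hasAxial_dual hA))
  have h3 := Nat.eq_of_mul_eq_mul_left D.lam_pos (h1.symm.trans h2)
  have h4 := D.two_le_lineSize
  have h5 := D.dual.two_le_lineSize
  omega

theorem ncard_off (hA : D.HasAxial) (c : B) :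
    ({p : P | ¬ D.I p c}.ncard : ℤ) = 1 + (D.k : ℤ) * (((D.lineSize - 1 : ℕ) : ℤ) - 1) := by
  have h1 := Set.ncard_add_ncard_compl {p : P | D.I p c} (Set.toFinite _) (Set.toFinite _)
  rw [D.card_pts, Set.compl_setOf] at h1
  have h1' : ({p : P | ¬ D.I p c}.ncard : ℤ) = (Nat.card P : ℤ) - D.k := by
    rw [← h1]; push_cast; ring
  have h2 := D.param'
  have hk : (D.k : ℤ) = 1 + (D.lam : ℤ) * ((D.lineSize - 1 : ℕ) : ℤ) := by
    exact_mod_cast D.k_eq hA
  have hlam : (D.lam : ℤ) ≠ 0 := by have := D.lam_pos; omega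
  refine mul_left_cancel₀ hlam ?_
  rw [h1', ← h2, hk]
  ring

/-- **The centred subgroups have full order.** -/
theorem card_Z (hA : D.HasAxial) {c : B} {x : P} (hx : D.I x c) :
    Nat.card (D.Z c x) = D.lineSize - 1 := by
  classical
  by_cases hH : D.HasHom
  swap
  · rw [D.card_Z_of_dual_meets hA hH (D.dual.meets (D.hasAxial_dual hA)) hx, D.dual_lineSize hA]
  set z := Nat.card (D.Z c x) with hz
  let X : Set P := {p | ¬ D.I p c}
  have : Fintype G := Fintype.ofFinite G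
  obtain ⟨p₀, hp₀⟩ := D.exists_not_mem c
  set j := Nat.card (MulAction.stabilizer (D.K c) p₀) with hj
  set t := (MulAction.orbit (D.K c) p₀).ncard with ht
  have hS : ∀ p : P, Nat.card (MulAction.stabilizer (D.K c) p) =
      {g : G | D.Ax g c ∧ g • p = p}.ncard := by
    intro p
    rw [← Nat.card_coe_set_eq]
    exact Nat.card_congr
      { toFun := fun g => ⟨g.1.1, g.1.2, g.2⟩
        invFun := fun g => ⟨⟨g.1, g.2.1⟩, g.2.2⟩
        left_inv := fun _ => rfl
        right_inv := fun _ => rfl }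
  have hconst : ∀ p ∈ X, Nat.card (MulAction.stabilizer (D.K c) p) = j := by
    intro p hp
    rw [hj, hS, hS]
    obtain ⟨a, hac, hap⟩ := D.trOut c p p₀ hp hp₀
    refine le_antisymm
      (Set.ncard_le_ncard_of_injOn (fun g => a * g * a⁻¹) ?_
        (fun g _ g' _ e => mul_left_cancel (mul_right_cancel e)) (Set.toFinite _))
      (Set.ncard_le_ncard_of_injOn (fun g => a⁻¹ * g * a) ?_
        (fun g _ g' _ e => mul_left_cancel (mul_right_cancel e)) (Set.toFinite _))
    · rintro g ⟨hg, hgp⟩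
      refine ⟨hac ▸ D.ax_conj hg a, ?_⟩
      rw [← hap, mul_smul, mul_smul, inv_smul_smul, hgp]
    · rintro g ⟨hg, hgp⟩
      refine ⟨?_, ?_⟩
      · have := D.ax_conj hg a⁻¹
        rwa [inv_inv, inv_smul_eq_iff.2 hac.symm] at this
      · rw [mul_smul, mul_smul, hap, hgp, ← hap, inv_smul_smul]
  have hj2 : 2 ≤ j := by
    obtain ⟨g, hg, hgc, hgp⟩ := D.exists_hom hH hp₀
    rw [hj, hS, ← Set.ncard_pair (Ne.symm hg)]
    refine Set.ncard_le_ncard ?_ (Set.toFinite _)
    rintro a (rfl | rfl)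
    exacts [⟨fun p _ => one_smul G p, one_smul G _⟩, ⟨hgc, hgp⟩]
  have htj : t * j = Nat.card (D.K c) := orbit_mul_stab _ _
  have hdiv : t ∣ X.ncard := by
    refine dvd_ncard_of_stab (D.K c) X (fun g hg p hp => D.ax_off hg hp) t fun p hp => ?_
    have h1 := orbit_mul_stab (D.K c) p
    rw [hconst p hp, ← htj] at h1
    exact Nat.eq_of_mul_eq_mul_right (by omega) h1
  have hcard : (Nat.card (D.K c) : ℤ) = 1 + (D.k : ℤ) * ((z : ℤ) - 1) + X.ncard * ((j : ℤ) - 1) := by
    let E : Set G := {g | g ≠ 1 ∧ ∃ y ∈ {y | D.I y c}, g ∈ D.Z c y}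
    have hE : (E.ncard : ℤ) = (D.k : ℤ) * ((z : ℤ) - 1) := by
      rw [D.ncard_centred c x hx {y | D.I y c} (fun y hy => hy), D.card_pts, ← hz]
      have := D.two_le_card_Z hA hx
      rw [← hz] at this
      push_cast [Nat.cast_sub (show 1 ≤ z by omega)]
      ring
    have e1 : ∀ g : G, (if D.Ax g c then (1 : ℤ) else 0) = (if g = 1 then 1 else 0) +
        (if g ∈ E then 1 else 0) +
        ∑ p : P, (if g ≠ 1 ∧ D.Ax g c ∧ p ∈ X ∧ g • p = p then 1 else 0) := by
      intro g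
      by_cases h1 : g = 1
      · subst h1
        have : D.Ax (1 : G) c := fun p _ => one_smul G p
        simp [this, E]
      by_cases hg : D.Ax g c
      · by_cases hs : D.Semi g c
        · obtain ⟨y, hy, hgy⟩ := D.exists_centre hA hg hs
          have hE' : g ∈ E := ⟨h1, y, hy, hg, hgy⟩
          have : ∀ p, ¬ (p ∈ X ∧ g • p = p) := fun p hp => hs p hp.1 hp.2
          simp [h1, hg, hE', this]
        · have hE' : g ∉ E := by
            rintro ⟨-, y, hy, hgy⟩
            exact hs (D.semi_of_Z hgy h1 hy)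
          simp only [Semi, not_forall, not_not] at hs
          obtain ⟨p, hp, hgp⟩ := hs
          have e : {q : P | g ≠ 1 ∧ D.Ax g c ∧ q ∈ X ∧ g • q = q} = {p} :=
            Set.eq_singleton_iff_unique_mem.2 ⟨⟨h1, hg, hp, hgp⟩,
              fun q hq => D.offFix_unique h1 hg hq.2.2 ⟨hp, hgp⟩⟩
          rw [← ncard_eq_sum_ite, e]
          simp [h1, hg, hE']
      · have hE' : g ∉ E := by
          rintro ⟨-, y, hy, hgy⟩
          exact hg hgy.1
        simp [h1, hg, hE']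
    have e2 : ∀ p : P, ∑ g : G, (if g ≠ 1 ∧ D.Ax g c ∧ p ∈ X ∧ g • p = p then (1 : ℤ) else 0) =
        (if p ∈ X then (j : ℤ) - 1 else 0) := by
      intro p
      rw [← ncard_eq_sum_ite]
      by_cases hp : p ∈ X
      · have hone : (1 : G) ∈ {g : G | D.Ax g c ∧ g • p = p} :=
          ⟨fun q _ => one_smul G q, one_smul G p⟩
        have e : {g : G | g ≠ 1 ∧ D.Ax g c ∧ p ∈ X ∧ g • p = p} =
            {g : G | D.Ax g c ∧ g • p = p} \ {1} := by
          ext g; simp [hp]; tauto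
        rw [e, Set.ncard_sdiff_singleton_of_mem hone, ← hS, hconst p hp, if_pos hp,
          Nat.cast_sub (by omega)]
        simp
      · simp [hp]
    have hK : (Nat.card (D.K c) : ℤ) = ∑ g : G, (if D.Ax g c then (1 : ℤ) else 0) := by
      rw [← ncard_eq_sum_ite, ← Nat.card_coe_set_eq]
      rfl
    rw [hK, Finset.sum_congr rfl fun g _ => e1 g, Finset.sum_add_distrib, Finset.sum_add_distrib,
      Finset.sum_comm, Finset.sum_congr rfl fun p _ => e2 p, Finset.sum_ite_eq',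
      if_pos (Finset.mem_univ _), ← ncard_eq_sum_ite,
      show {g : G | g ∈ E} = E from rfl, hE, ← Finset.sum_filter, Finset.sum_const, nsmul_eq_mul,
      ← Set.ncard_coe_finset, Finset.coe_filter_univ]
    rfl
  obtain ⟨N, hN⟩ := hdiv
  have hz2 : (2 : ℤ) ≤ z := by exact_mod_cast D.two_le_card_Z hA hx
  have hk0 : (2 : ℤ) ≤ D.k := by have := D.lam_lt; omega
  rw [← htj, hN] at hcard
  push_cast at hcard
  have hN1 : N = 1 := by
    have hN0 : N ≠ 0 := by
      intro h0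
      rw [h0, mul_zero, Set.ncard_eq_zero (Set.toFinite _)] at hN
      exact Set.notMem_empty p₀ (hN ▸ (hp₀ : p₀ ∈ X))
    by_contra hne
    have h1 : (2 : ℤ) ≤ N := by exact_mod_cast (show 2 ≤ N by omega)
    have h2 : (2 : ℤ) ≤ j := by exact_mod_cast hj2
    have h3 : (j : ℤ) ≤ (N : ℤ) * ((j : ℤ) - 1) := by nlinarith
    have h4 : (t : ℤ) * j ≤ (t : ℤ) * ((N : ℤ) * ((j : ℤ) - 1)) :=
      mul_le_mul_of_nonneg_left h3 (by positivity)
    nlinarith
  subst hN1
  rw [mul_one] at hN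
  have h5 := D.ncard_off hA c
  rw [show {p : P | ¬ D.I p c} = X from rfl, hN] at h5
  have h6 : (D.k : ℤ) * (((D.lineSize - 1 : ℕ) : ℤ) - 1) = (D.k : ℤ) * ((z : ℤ) - 1) := by
    push_cast at hcard
    linear_combination hcard - h5
  have h7 := mul_left_cancel₀ (by omega) h6
  have : (z : ℤ) = ((D.lineSize - 1 : ℕ) : ℤ) := by linarith
  exact_mod_cast this

end Des

end Cfsg.Agent.CG26.Ito
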