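import Cfsg.Agent.CG26.Ito.Coord
import Cfsg.Agent.S3732

/-!
# The plane case
-/

set_option autoImplicit false
set_option linter.unusedSectionVars false

namespace Cfsg.Agent.CG26.Ito

open scoped LinearAlgebra.Projectivization

variable {G P B : Type*} [Group G] [MulAction G P] [MulAction G B] [Fintype P] [Fintype B]
  [Finite G] (D : Des G P B)

theorem exists_coordinates_plane (h1 : D.lam = 1) :
    ∃ (F : Type) (_ : Field F) (_ : Fintype F) (e : P ≃ ℙ F (Fin (2 + 1) → F)), IsCoord D e := by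
  classical
  let _ : Membership P B := ⟨fun c p => D.I p c⟩
  have huniq : ∀ (p q : P) (c d : B), D.I p c → D.I q c → D.I p d → D.I q d → p = q ∨ c = d := by
    intro p q c d hpc hqc hpd hqd
    by_cases h : c = d
    · exact Or.inr h
    refine Or.inl ?_
    have := D.lam_pts c d h
    rw [h1] at this
    exact (Set.ncard_le_one_iff (Set.toFinite _)).1 this.le ⟨hpc, hpd⟩ ⟨hqc, hqd⟩
  have hpt : ∀ c d : B, c ≠ d → ∃ p, D.I p c ∧ D.I p d := fun c d h =>
    Set.nonempty_of_ncard_ne_zero (s := {p | D.I p c ∧ D.I p d})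
      (by rw [D.lam_pts c d h, h1]; omega)
  have hln : ∀ p q : P, p ≠ q → ∃ c, D.I p c ∧ D.I q c := fun p q h =>
    Set.nonempty_of_ncard_ne_zero (s := {c | D.I p c ∧ D.I q c})
      (by rw [D.lam_blks p q h, h1]; omega)
  choose mp hmp using hpt
  choose ml hml using hln
  have hk := D.lam_lt
  have hconf : ∃ (p₁ p₂ p₃ : P) (l₁ l₂ l₃ : B),
      ¬ D.I p₁ l₂ ∧ ¬ D.I p₁ l₃ ∧ ¬ D.I p₂ l₁ ∧ D.I p₂ l₂ ∧ D.I p₂ l₃ ∧ ¬ D.I p₃ l₁ ∧
        D.I p₃ l₂ ∧ ¬ D.I p₃ l₃ := by
    obtain ⟨c⟩ := D.nonempty_blks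
    obtain ⟨p₂, hp₂⟩ := D.exists_not_mem c
    obtain ⟨l₂, hl₂⟩ := Set.nonempty_of_ncard_ne_zero (s := {b | D.I p₂ b})
      (by rw [D.card_blks]; omega)
    obtain ⟨l₃, hl₃, hne⟩ := Set.exists_ne_of_one_lt_ncard (s := {b | D.I p₂ b})
      (by rw [D.card_blks]; omega) l₂
    have hcl : c ≠ l₂ := fun e => hp₂ (e ▸ hl₂)
    obtain ⟨p₃, hp₃⟩ := Set.nonempty_of_ncard_ne_zero
      (s := ({p | D.I p l₂} \ {p | D.I p c ∧ D.I p l₂}) \ {p₂}) (by
        rw [Set.ncard_sdiff_singleton_of_mem (show p₂ ∈ {p | D.I p l₂} \ {p | D.I p c ∧ D.I p l₂}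
            from ⟨hl₂, fun h => hp₂ h.1⟩),
          Set.ncard_sdiff (fun p hp => hp.2) (Set.toFinite _), D.card_pts, D.lam_pts c l₂ hcl]
        omega)
    obtain ⟨⟨h32, h3c⟩, h3ne⟩ := hp₃
    obtain ⟨p₁, hp₁⟩ : ∃ p, p ∉ {p | D.I p l₂} ∪ {p | D.I p l₃} := by
      by_contra hc
      push_neg at hc
      have h := Set.ncard_le_ncard (fun p (_ : p ∈ (Set.univ : Set P)) => hc p) (Set.toFinite _)
      have h' := Set.ncard_union_add_ncard_inter {p | D.I p l₂} {p | D.I p l₃}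
        (Set.toFinite _) (Set.toFinite _)
      have e : ({p | D.I p l₂} ∩ {p | D.I p l₃}).ncard = D.lam := D.lam_pts l₂ l₃ (Ne.symm hne)
      rw [Set.ncard_univ] at h
      rw [D.card_pts, D.card_pts, e, h1] at h'
      have hp := D.param
      have h3 : (3 : ℤ) ≤ D.k := by omega
      have hv : (Nat.card P : ℤ) + 1 ≤ 2 * D.k := by omega
      rw [h1] at hp
      push_cast at hp
      nlinarith
    refine ⟨p₁, p₂, p₃, c, l₂, l₃, fun h => hp₁ (Or.inl h), fun h => hp₁ (Or.inr h), hp₂, hl₂,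
      hl₃, fun h => h3c ⟨h, h32⟩, h32, fun h => ?_⟩
    rcases huniq p₂ p₃ l₂ l₃ hl₂ h32 hl₃ h with e | e
    · exact h3ne e.symm
    · exact hne e.symm
  let _ : Configuration.ProjectivePlane P B :=
    { exists_point := D.exists_not_mem
      exists_line := D.dual.exists_not_mem
      eq_or_eq := fun {p q c d} hpc hqc hpd hqd => huniq p q c d hpc hqc hpd hqd
      mkPoint := fun {c d} h => mp c d h
      mkPoint_ax := fun {c d} h => hmp c d h
      mkLine := fun {p q} h => ml p q h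
      mkLine_ax := fun {p q} h => hml p q h
      exists_config := hconf }
  obtain ⟨F, _, _, φ, hφ, -⟩ := Cfsg.Agent.S3732.result (P := P) (L := B) (by
    intro p₁ p₂ q₁ q₂ hp hq
    obtain ⟨g, h₁, h₂⟩ := D.ttP p₁ p₂ q₁ q₂ hp hq
    exact ⟨MulAction.toPerm g, MulAction.toPerm g, fun p l => D.inv g p l, h₁, h₂⟩)
  refine ⟨F, inferInstance, inferInstance, φ, isCoord_of_blocks D φ fun c => ?_⟩
  obtain ⟨W, hW, hWc⟩ := hφ c
  have hlt : W < ⊤ := lt_top_iff_ne_top.2 fun e => by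
    rw [e, finrank_top, Module.finrank_fin_fun] at hW
    omega
  obtain ⟨f, hf, hWf⟩ := W.exists_le_ker_of_lt_top hlt
  have hker : LinearMap.ker f = W := by
    refine (Submodule.eq_of_le_of_finrank_le hWf ?_).symm
    have : LinearMap.ker f < ⊤ := lt_top_iff_ne_top.2 fun e => hf (LinearMap.ker_eq_top.1 e)
    have := Submodule.finrank_lt this.ne
    rw [Module.finrank_fin_fun] at this
    omega
  refine ⟨f, hf, fun p => (hWc p).trans ?_⟩
  rw [← LinearMap.mem_ker, hker, Projectivization.submodule_eq,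
    Submodule.span_singleton_le_iff_mem]

end Cfsg.Agent.CG26.Ito
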