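import Cfsg.Agent.CG26.Ito.Meets

/-!
# The translation group of a block
-/

set_option autoImplicit false
set_option linter.unusedSectionVars false

namespace Cfsg.Agent.CG26.Ito

variable {G P B : Type*} [Group G] [MulAction G P] [MulAction G B] [Fintype P] [Fintype B]
  [Finite G] (D : Des G P B)

namespace Des

include D

theorem Z_comm {c : B} {x y : P} (hx : D.I x c) (hy : D.I y c) (hxy : x ≠ y) {a b : G}
    (ha : a ∈ D.Z c x) (hb : b ∈ D.Z c y) : a * b = b * a := by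
  have h1 : a * b * a⁻¹ * b⁻¹ ∈ D.Z c x := by
    have := D.conj_Z ((D.Z c x).inv_mem ha) b
    rw [D.ax_smul hb.1, hb.1 x hx] at this
    have e : a * b * a⁻¹ * b⁻¹ = a * (b * a⁻¹ * b⁻¹) := by group
    rw [e]
    exact (D.Z c x).mul_mem ha this
  have h2 : a * b * a⁻¹ * b⁻¹ ∈ D.Z c y := by
    have := D.conj_Z hb a
    rw [D.ax_smul ha.1, ha.1 y hy] at this
    exact (D.Z c y).mul_mem this ((D.Z c y).inv_mem hb)
  have h := D.Z_inf hxy h1 h2
  calc a * b = (a * b * a⁻¹ * b⁻¹) * (b * a) := by group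
    _ = b * a := by rw [h, one_mul]

/-- The product of two commuting centred elations is an elation. -/
theorem semi_mul {c : B} {x y : P} (hx : D.I x c) (hy : D.I y c) (hxy : x ≠ y) {a b : G}
    (ha : a ∈ D.Z c x) (hb : b ∈ D.Z c y) (h : a * b ≠ 1) : D.Semi (a * b) c := by
  intro p hp he
  have hab : D.Ax (a * b) c := (D.K c).mul_mem ha.1 hb.1
  have hap : ¬ D.I (a • p) c := D.ax_off ha.1 hp
  have h2 : (a * b) • (a • p) = a • p := by
    have e : a * b * a = a * (a * b) := by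
      rw [mul_assoc, ← D.Z_comm hx hy hxy ha hb]
    rw [← mul_smul, e, mul_smul, he]
  have h3 : a • p = p := D.offFix_unique h hab ⟨hap, h2⟩ ⟨hp, he⟩
  by_cases h1 : a = 1
  · subst h1
    rw [one_mul] at h he
    exact D.semi_of_Z hb h hy p hp he
  · exact D.semi_of_Z ha h1 hx p hp h3

theorem mul_elation (hA : D.HasAxial) {c : B} {x y : P} (hx : D.I x c) (hy : D.I y c) {a b : G}
    (ha : a ∈ D.Z c x) (hb : b ∈ D.Z c y) (h : a * b ≠ 1) :
    ∃ w, D.I w c ∧ a * b ∈ D.Z c w := by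
  by_cases hxy : x = y
  · subst hxy
    exact ⟨x, hx, (D.Z c x).mul_mem ha hb⟩
  have hab : D.Ax (a * b) c := (D.K c).mul_mem ha.1 hb.1
  obtain ⟨w, hw, hgw⟩ := D.exists_centre hA hab (D.semi_mul hx hy hxy ha hb h)
  exact ⟨w, hw, hab, hgw⟩

/-- The translations with axis `c`. -/
def T (hA : D.HasAxial) (c : B) : Subgroup G where
  carrier := {g | g = 1 ∨ ∃ x, D.I x c ∧ g ∈ D.Z c x}
  one_mem' := Or.inl rfl
  mul_mem' {a b} := by
    rintro (rfl | ⟨x, hx, ha⟩) hb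
    · rwa [one_mul]
    rcases hb with rfl | ⟨y, hy, hb⟩
    · exact Or.inr ⟨x, hx, by rwa [mul_one]⟩
    by_cases h : a * b = 1
    · exact Or.inl h
    · exact Or.inr (D.mul_elation hA hx hy ha hb h)
  inv_mem' {a} := by
    rintro (rfl | ⟨x, hx, ha⟩)
    · exact Or.inl inv_one
    · exact Or.inr ⟨x, hx, (D.Z c x).inv_mem ha⟩

variable {D}

theorem Z_le_T (hA : D.HasAxial) {c : B} {x : P} (hx : D.I x c) : D.Z c x ≤ D.T hA c :=
  fun _ hg => Or.inr ⟨x, hx, hg⟩

theorem T_centre (hA : D.HasAxial) {c : B} {g : G} (hg : g ∈ D.T hA c) :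
    ∃ x, D.I x c ∧ g ∈ D.Z c x := by
  rcases hg with rfl | h
  · obtain ⟨x, hx⟩ := D.exists_mem c
    exact ⟨x, hx, (D.Z c x).one_mem⟩
  · exact h

theorem T_ax (hA : D.HasAxial) {c : B} {g : G} (hg : g ∈ D.T hA c) : D.Ax g c := by
  obtain ⟨x, -, h⟩ := T_centre hA hg
  exact h.1

theorem T_semi (hA : D.HasAxial) {c : B} {g : G} (hg : g ∈ D.T hA c) {p : P} (hp : ¬ D.I p c)
    (h : g • p = p) : g = 1 := by
  by_contra h1
  obtain ⟨x, hx, hgx⟩ := T_centre hA hg
  exact D.semi_of_Z hgx h1 hx p hp h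

theorem T_comm (hA : D.HasAxial) {c : B} {a b : G} (ha : a ∈ D.T hA c) (hb : b ∈ D.T hA c) :
    a * b = b * a := by
  by_cases ha1 : a = 1
  · rw [ha1, one_mul, mul_one]
  obtain ⟨x, hx, hax⟩ := T_centre hA ha
  obtain ⟨y, hy, hby⟩ := T_centre hA hb
  by_cases hxy : x = y
  swap
  · exact D.Z_comm hx hy hxy hax hby
  subst hxy
  -- use an element with another centre
  obtain ⟨y', hy', hne⟩ : ∃ y', D.I y' c ∧ y' ≠ x :=
    Set.exists_ne_of_one_lt_ncard (s := {p | D.I p c})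
      (by rw [D.card_pts]; have := D.lam_lt; omega) x
  have h2 := D.two_le_card_Z hA hy'
  obtain ⟨d, hd, hd1⟩ : ∃ d ∈ D.Z c y', d ≠ 1 := by
    by_contra hc
    push_neg at hc
    have : D.Z c y' = ⊥ := (Subgroup.eq_bot_iff_forall _).2 hc
    rw [this, Subgroup.card_bot] at h2
    omega
  have hbd : b * d ∈ D.T hA c := (D.T hA c).mul_mem hb (Z_le_T hA hy' hd)
  obtain ⟨w, hw, hbdw⟩ := T_centre hA hbd
  have hxw : x ≠ w := by
    intro e
    subst e
    have : d ∈ D.Z c x := by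
      have := (D.Z c x).mul_mem ((D.Z c x).inv_mem hby) hbdw
      rwa [inv_mul_cancel_left] at this
    exact hd1 (D.Z_inf hne hd this)
  have e1 := D.Z_comm hx hw hxw hax hbdw
  have e2 := D.Z_comm hx hy' hne.symm hax hd
  refine mul_right_cancel (b := d) ?_
  rw [mul_assoc, e1, mul_assoc, ← e2, mul_assoc]

variable (D)

/-- A centred subgroup is transitive on the rest of a line through the centre. -/
theorem exists_Z_map (hA : D.HasAxial) {c : B} {x p r : P} (hx : D.I x c) (hp : ¬ D.I p c)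
    (hr : r ∈ D.line x p) (hrx : r ≠ x) : ∃ g ∈ D.Z c x, g • p = r := by
  have hxp : x ≠ p := fun e => hp (e ▸ hx)
  have hsub : (fun g : G => g • p) '' (D.Z c x : Set G) ⊆ D.line x p \ {x} := by
    rintro _ ⟨g, hg, rfl⟩
    refine ⟨fun b hxb hpb => ?_, fun e => hp ?_⟩
    · have := (D.inv g p b).2 hpb
      rwa [hg.2 b hxb] at this
    · exact (MulAction.injective g ((Set.mem_singleton_iff.1 e).trans (hg.1 x hx).symm)) ▸ hx
  have hinj : Set.InjOn (fun g : G => g • p) (D.Z c x : Set G) := by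
    intro a ha b hb e
    have h1 : (b⁻¹ * a) • p = p := by
      rw [mul_smul, show a • p = b • p from e, inv_smul_smul]
    exact (inv_mul_eq_one.1 (T_semi hA
      (Z_le_T hA hx ((D.Z c x).mul_mem ((D.Z c x).inv_mem hb) ha)) hp h1)).symm
  have heq := Set.eq_of_subset_of_ncard_le hsub
    (by rw [Set.ncard_image_of_injOn hinj, Set.ncard_sdiff_singleton_of_mem (D.left_mem_line x p),
      D.ncard_line hxp, ← Nat.card_coe_set_eq]
        exact le_of_eq (D.card_Z hA hx).symm) (Set.toFinite _)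
  have : r ∈ (fun g : G => g • p) '' (D.Z c x : Set G) := heq ▸ ⟨hr, hrx⟩
  obtain ⟨g, hg, hgr⟩ := this
  exact ⟨g, hg, hgr⟩

/-- The translation group is transitive off the axis. -/
theorem exists_T_map (hA : D.HasAxial) {c : B} {p r : P} (hp : ¬ D.I p c) (hr : ¬ D.I r c) :
    ∃ g ∈ D.T hA c, g • p = r := by
  by_cases h : p = r
  · exact ⟨1, (D.T hA c).one_mem, by rw [one_smul, h]⟩
  obtain ⟨x, hxl, hxc⟩ := D.meets hA p r h c
  have hxp : x ≠ p := fun e => hp (e ▸ hxc)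
  have hrx : r ≠ x := fun e => hr (e ▸ hxc)
  have hl : r ∈ D.line x p := by
    rw [D.line_eq h hxl (D.left_mem_line p r) hxp]
    exact D.right_mem_line p r
  obtain ⟨g, hg, hgr⟩ := D.exists_Z_map hA hxc hp hl hrx
  exact ⟨g, Z_le_T hA hxc hg, hgr⟩

theorem card_T (hA : D.HasAxial) (c : B) :
    Nat.card (D.T hA c) = {p : P | ¬ D.I p c}.ncard := by
  obtain ⟨p, hp⟩ := D.exists_not_mem c
  rw [← Nat.card_coe_set_eq]
  refine Nat.card_congr (Equiv.ofBijective
    (fun g : D.T hA c => (⟨g.1 • p, D.ax_off (T_ax hA g.2) hp⟩ : {p : P | ¬ D.I p c}))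
    ⟨fun a b e => ?_, fun r => ?_⟩)
  · have h1 : ((b : G)⁻¹ * a) • p = p := by
      rw [mul_smul, show (a : G) • p = (b : G) • p from congrArg Subtype.val e, inv_smul_smul]
    exact Subtype.ext (inv_mul_eq_one.1
      (T_semi hA ((D.T hA c).mul_mem ((D.T hA c).inv_mem b.2) a.2) hp h1)).symm
  · obtain ⟨g, hg, hgr⟩ := D.exists_T_map hA hp r.2
    exact ⟨⟨g, hg⟩, Subtype.ext hgr⟩

theorem two_le_order (hA : D.HasAxial) : 2 ≤ D.lineSize - 1 := by
  obtain ⟨c⟩ := D.nonempty_blks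
  obtain ⟨x, hx⟩ := D.exists_mem c
  rw [← D.card_Z hA hx]
  exact D.two_le_card_Z hA hx

theorem card_T' (hA : D.HasAxial) (c : B) :
    Nat.card (D.T hA c) = 1 + D.k * (D.lineSize - 1 - 1) := by
  have h := D.ncard_off hA c
  rw [← D.card_T hA c] at h
  have := D.two_le_order hA
  have e : ((1 + D.k * (D.lineSize - 1 - 1) : ℕ) : ℤ) =
      1 + (D.k : ℤ) * (((D.lineSize - 1 : ℕ) : ℤ) - 1) := by
    rw [Nat.cast_add, Nat.cast_mul, Nat.cast_sub (show 1 ≤ D.lineSize - 1 by omega)]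
    simp
  rw [← e] at h
  exact_mod_cast h

/-- A translation with centre on a line of the axis is a product along two centres of it. -/
theorem line_decomp (hA : D.HasAxial) {c : B} {x y w : P} (hx : D.I x c) (hy : D.I y c)
    (hxy : x ≠ y) {g : G} (hw : w ∈ D.line x y) (hg : g ∈ D.Z c w) :
    ∃ a ∈ D.Z c x, ∃ b ∈ D.Z c y, a * b = g := by
  classical
  have hin := D.line_in_blk hxy (D.left_mem_line x y) (D.right_mem_line x y) hxy hx hy
  let U : Set G := {g | g ≠ 1 ∧ ∃ w ∈ D.line x y, g ∈ D.Z c w}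
  have hU : U.ncard = D.lineSize * (D.lineSize - 1 - 1) := by
    rw [D.ncard_centred c x hx (D.line x y) hin, D.ncard_line hxy, D.card_Z hA hx]
  have hone : (1 : G) ∉ U := fun h => h.1 rfl
  have hsub : (fun ab : G × G => ab.1 * ab.2) '' ((D.Z c x : Set G) ×ˢ (D.Z c y : Set G)) ⊆
      insert 1 U := by
    rintro _ ⟨⟨a, b⟩, ⟨ha, hb⟩, rfl⟩
    by_cases h : a * b = 1
    · exact Or.inl h
    obtain ⟨w', hw', hgw'⟩ := D.mul_elation hA hx hy ha hb h
    refine Or.inr ⟨h, w', fun d hxd hyd => (D.fixed_iff_centre hgw' h hw' d).1 ?_, hgw'⟩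
    rw [mul_smul, hb.2 d hyd, ha.2 d hxd]
  have hinj : Set.InjOn (fun ab : G × G => ab.1 * ab.2)
      ((D.Z c x : Set G) ×ˢ (D.Z c y : Set G)) := by
    rintro ⟨a, b⟩ ⟨ha, hb⟩ ⟨a', b'⟩ ⟨ha', hb'⟩ e
    have e' : a * b = a' * b' := e
    have h1 : a'⁻¹ * a = b' * b⁻¹ := by
      rw [inv_mul_eq_iff_eq_mul, ← mul_assoc, ← e', mul_inv_cancel_right]
    have h2 := D.Z_inf hxy ((D.Z c x).mul_mem ((D.Z c x).inv_mem ha') ha)
      (h1 ▸ (D.Z c y).mul_mem hb' ((D.Z c y).inv_mem hb))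
    have h3 : a' = a := inv_mul_eq_one.1 h2
    subst h3
    exact Prod.ext rfl (mul_left_cancel e')
  have heq := Set.eq_of_subset_of_ncard_le hsub (by
    rw [Set.ncard_image_of_injOn hinj, Set.ncard_prod,
      Set.ncard_insert_of_notMem hone (Set.toFinite _), hU, ← Nat.card_coe_set_eq,
      ← Nat.card_coe_set_eq]
    show _ ≤ Nat.card (D.Z c x) * Nat.card (D.Z c y)
    rw [D.card_Z hA hx, D.card_Z hA hy]
    have := D.two_le_order hA
    obtain ⟨j, hj⟩ : ∃ j, D.lineSize = j + 3 := ⟨D.lineSize - 3, by omega⟩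
    rw [hj, show j + 3 - 1 = j + 2 by omega, show j + 2 - 1 = j + 1 by omega]
    exact le_of_eq (by ring)) (Set.toFinite _)
  have : g ∈ insert 1 U := by
    by_cases h : g = 1
    · exact Or.inl h
    · exact Or.inr ⟨h, w, hw, hg⟩
  rw [← heq] at this
  obtain ⟨⟨a, b⟩, ⟨ha, hb⟩, e⟩ := this
  exact ⟨a, ha, b, hb, e⟩

end Des

end Cfsg.Agent.CG26.Ito
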